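import Cfsg.Agent.H397.QS.O7.Inv

/-!
# Class certificates for the isometry group of `F₃⁷` (part A)
-/

set_option autoImplicit false
set_option maxRecDepth 100000

namespace Cfsg.Agent.H397.QS.O7

/-- class 1 -/
def c1 : Cls := ⟨[6, 4, 1, 7, 0, 2, 2, 3, 1, 2, 0, 7, 1, 4, 6, 1, 3, 2], ⟨⟨0, 0, 1, 0, 0, 1, 2⟩, ⟨1, 0, 2, 0, 1,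
  1, 1⟩, ⟨0, 1, 1, 1, 0, 0, 0⟩, ⟨1, 2, 1, 0, 0, 2, 1⟩, ⟨0, 2, 1, 1, 0, 0, 0⟩, ⟨0, 2, 2, 0, 2, 1, 1⟩, ⟨1, 2, 1,
  2, 0, 1, 2⟩⟩, ⟨⟨2, 1, 2, 2, 2, 0, 2⟩, ⟨1, 2, 1, 2, 2, 0, 2⟩, ⟨2, 0, 1, 1, 1, 0, 2⟩, ⟨0, 1, 2, 0, 0, 0, 2⟩, ⟨0,
  0, 0, 1, 2, 1, 0⟩, ⟨0, 1, 2, 0, 1, 1, 2⟩, ⟨0, 2, 0, 2, 1, 1, 2⟩⟩, ⟨⟨2, 2, 0, 2, 1, 0, 2⟩, ⟨0, 1, 0, 1, 2, 0,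
  1⟩, ⟨0, 0, 1, 0, 0, 0, 0⟩, ⟨0, 0, 0, 0, 1, 0, 2⟩, ⟨1, 2, 2, 2, 2, 0, 2⟩, ⟨0, 1, 0, 1, 0, 1, 0⟩, ⟨0, 0, 2, 2,
  1, 0, 0⟩⟩, [54, 54, 270, 54, 3], [⟨⟨2, 1, 1, 2, 0, 0, 2⟩, 54, 0, [⟨2, 0, 0, 2, 1, 0, 2⟩, ⟨1, 1, 1, 2, 0, 2,
  1⟩, ⟨1, 2, 2, 0, 2, 0, 0⟩, ⟨2, 0, 0, 1, 2, 0, 1⟩, ⟨2, 2, 0, 1, 0, 2, 1⟩, ⟨1, 2, 0, 2, 0, 0, 2⟩]⟩], 54⟩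

theorem ok1 : clsOk c1 = true := by decide +kernel

/-- class 5 -/
def c5 : Cls := ⟨[6, 4, 1, 7, 0, 2, 4, 6, 2, 3, 4, 7, 6, 2, 1, 0, 6, 5, 3, 7, 2, 1, 6, 0, 2, 7, 0, 5, 6, 1, 4,
  3, 2, 3, 6, 1, 4, 7, 5, 0, 6, 3, 2, 6, 3, 1, 0, 1, 2, 0, 7, 1, 4, 6, 1, 0, 1, 3, 6, 2, 3, 6, 0, 5, 7, 4, 1, 6,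
  3, 2, 3, 4, 1, 6, 5, 0, 7, 2, 0, 6, 1, 2, 7, 3, 5, 6, 0, 1, 2, 6, 7, 4, 3, 2, 6, 4], ⟨⟨2, 1, 0, 1, 2, 2, 1⟩,
  ⟨2, 2, 0, 2, 2, 2, 2⟩, ⟨2, 0, 2, 2, 2, 2, 2⟩, ⟨0, 0, 0, 1, 2, 2, 0⟩, ⟨0, 1, 0, 0, 0, 1, 1⟩, ⟨0, 0, 0, 0, 0, 2,
  0⟩, ⟨2, 2, 0, 2, 1, 1, 0⟩⟩, ⟨⟨2, 2, 0, 1, 0, 0, 0⟩, ⟨0, 0, 0, 0, 2, 2, 2⟩, ⟨0, 2, 1, 0, 2, 2, 2⟩, ⟨0, 2, 0, 1,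
  2, 2, 2⟩, ⟨1, 1, 0, 1, 0, 2, 2⟩, ⟨0, 0, 0, 0, 0, 1, 0⟩, ⟨2, 1, 0, 2, 0, 0, 1⟩⟩, ⟨⟨2, 0, 0, 1, 1, 1, 0⟩, ⟨1, 0,
  0, 1, 2, 2, 2⟩, ⟨1, 1, 2, 1, 2, 2, 2⟩, ⟨2, 1, 0, 0, 2, 2, 0⟩, ⟨2, 1, 0, 2, 2, 0, 0⟩, ⟨0, 0, 0, 0, 0, 2, 0⟩,
  ⟨2, 0, 0, 2, 2, 2, 1⟩⟩, [30, 0, 144, 0, 243], [⟨⟨1, 1, 1, 1, 2, 2, 2⟩, 120, 0, [⟨1, 0, 2, 1, 1, 1, 1⟩, ⟨2, 1,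
  1, 2, 0, 0, 0⟩]⟩, ⟨⟨1, 2, 2, 1, 1, 1, 2⟩, 12, 0, []⟩, ⟨⟨0, 2, 1, 0, 1, 0, 2⟩, 2, 0, []⟩, ⟨⟨2, 2, 1, 0, 2, 0,
  1⟩, 4, 0, [⟨0, 1, 2, 1, 2, 1, 1⟩]⟩], 11520⟩

theorem ok5 : clsOk c5 = true := by decide +kernel

/-- class 9 -/
def c9 : Cls := ⟨[6, 4, 1, 7, 0, 2, 3, 5, 2, 0, 7, 1, 4, 6, 5, 3], ⟨⟨1, 2, 2, 0, 2, 1, 2⟩, ⟨0, 0, 0, 0, 1, 2,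
  0⟩, ⟨2, 0, 0, 2, 0, 2, 1⟩, ⟨0, 2, 2, 1, 1, 1, 2⟩, ⟨2, 2, 1, 2, 1, 0, 0⟩, ⟨0, 1, 1, 0, 0, 0, 1⟩, ⟨0, 1, 1, 0,
  1, 2, 2⟩⟩, ⟨⟨0, 0, 1, 2, 2, 1, 0⟩, ⟨2, 1, 0, 2, 1, 0, 2⟩, ⟨2, 2, 2, 2, 1, 0, 0⟩, ⟨0, 1, 0, 1, 0, 1, 0⟩, ⟨0, 1,
  0, 0, 0, 1, 0⟩, ⟨2, 1, 1, 2, 2, 0, 0⟩, ⟨1, 0, 2, 1, 1, 2, 1⟩⟩, ⟨⟨0, 0, 1, 2, 1, 1, 0⟩, ⟨1, 0, 2, 1, 1, 1, 0⟩,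
  ⟨2, 1, 0, 2, 0, 0, 1⟩, ⟨0, 0, 0, 1, 2, 0, 0⟩, ⟨0, 1, 1, 0, 1, 2, 1⟩, ⟨2, 0, 1, 2, 0, 2, 0⟩, ⟨1, 0, 2, 1, 2, 2,
  1⟩⟩, [60, 0, 270, 60, 27], [⟨⟨2, 0, 2, 0, 0, 0, 2⟩, 120, 0, [⟨0, 0, 0, 1, 0, 1, 1⟩, ⟨0, 1, 1, 1, 2, 0, 2⟩, ⟨0,
  2, 0, 1, 0, 0, 1⟩, ⟨0, 0, 0, 1, 1, 1, 1⟩]⟩, ⟨⟨1, 2, 2, 2, 0, 0, 1⟩, 2, 0, []⟩, ⟨⟨2, 2, 2, 0, 0, 2, 1⟩, 2, 0,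
  []⟩], 480⟩

theorem ok9 : clsOk c9 = true := by decide +kernel

/-- class 13 -/
def c13 : Cls := ⟨[6, 4, 1, 7, 0, 2, 1, 3, 4, 3, 0, 2, 0, 6, 0, 7, 1, 6, 2, 3, 4, 0, 3, 2, 1, 5, 6, 2, 3, 1, 0,
  4, 5, 2, 3, 1, 2, 4, 3, 0, 1, 6, 2, 6, 1, 3, 2, 1, 4, 1, 0, 1, 2, 0, 7, 1, 4, 6, 1, 0, 1, 4, 1, 2, 3, 1, 6, 2,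
  6, 1, 0, 3, 4, 2, 1, 3, 2, 5, 4, 0, 1, 3, 2, 6, 5, 1, 2, 3, 0, 4, 3, 2, 6, 1, 7, 0, 6, 0, 2, 0, 3, 4, 3, 1],
  ⟨⟨0, 1, 0, 2, 1, 1, 0⟩, ⟨2, 1, 2, 2, 0, 1, 0⟩, ⟨2, 1, 2, 2, 1, 1, 1⟩, ⟨0, 2, 2, 1, 0, 1, 1⟩, ⟨2, 0, 1, 2, 1,
  1, 2⟩, ⟨0, 1, 2, 0, 2, 2, 2⟩, ⟨1, 2, 0, 1, 2, 2, 1⟩⟩, ⟨⟨1, 0, 0, 0, 0, 0, 0⟩, ⟨0, 1, 0, 0, 0, 0, 0⟩, ⟨0, 0, 1,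
  0, 0, 0, 0⟩, ⟨0, 0, 0, 1, 0, 0, 0⟩, ⟨0, 0, 0, 0, 1, 0, 0⟩, ⟨0, 0, 0, 0, 0, 1, 0⟩, ⟨0, 0, 0, 0, 0, 0, 1⟩⟩, ⟨⟨0,
  1, 0, 2, 1, 1, 0⟩, ⟨2, 1, 2, 2, 0, 1, 0⟩, ⟨2, 1, 2, 2, 1, 1, 1⟩, ⟨0, 2, 2, 1, 0, 1, 1⟩, ⟨2, 0, 1, 2, 1, 1, 2⟩,
  ⟨0, 1, 2, 0, 2, 2, 2⟩, ⟨1, 2, 0, 1, 2, 2, 1⟩⟩, [216, 0, 288, 0, 2187], [⟨⟨2, 0, 1, 0, 2, 1, 1⟩, 288, 0, [⟨1,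
  0, 0, 2, 0, 0, 2⟩]⟩, ⟨⟨1, 2, 0, 2, 2, 1, 0⟩, 24, 0, [⟨2, 2, 0, 0, 2, 0, 2⟩]⟩, ⟨⟨0, 0, 1, 1, 0, 0, 2⟩, 4, 0,
  [⟨1, 1, 1, 2, 2, 0, 1⟩]⟩, ⟨⟨2, 2, 1, 0, 2, 2, 2⟩, 2, 0, []⟩], 55296⟩

theorem ok13 : clsOk c13 = true := by decide +kernel

/-- class 17 -/
def c17 : Cls := ⟨[6, 4, 1, 7, 0, 2, 3, 0, 7, 5, 2, 0, 7, 1, 4, 6, 5, 7, 0, 3], ⟨⟨1, 0, 0, 0, 2, 1, 0⟩, ⟨0, 0,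
  0, 0, 1, 2, 0⟩, ⟨0, 0, 0, 0, 0, 1, 1⟩, ⟨0, 2, 2, 1, 1, 1, 2⟩, ⟨2, 2, 1, 2, 1, 0, 0⟩, ⟨0, 1, 1, 0, 0, 0, 1⟩,
  ⟨0, 0, 0, 0, 1, 2, 1⟩⟩, ⟨⟨2, 2, 0, 1, 1, 1, 1⟩, ⟨2, 1, 0, 2, 1, 0, 2⟩, ⟨0, 1, 1, 0, 1, 2, 2⟩, ⟨2, 2, 1, 0, 0,
  2, 1⟩, ⟨1, 0, 2, 1, 0, 0, 2⟩, ⟨0, 0, 0, 0, 2, 2, 2⟩, ⟨2, 1, 0, 2, 2, 2, 0⟩⟩, ⟨⟨1, 2, 1, 0, 0, 0, 1⟩, ⟨1, 0, 2,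
  1, 1, 1, 0⟩, ⟨2, 1, 0, 2, 1, 1, 2⟩, ⟨2, 2, 2, 0, 1, 0, 1⟩, ⟨1, 2, 2, 1, 2, 2, 0⟩, ⟨1, 0, 1, 1, 1, 1, 1⟩, ⟨0,
  1, 2, 0, 0, 0, 0⟩⟩, [78, 78, 234, 0, 3], [⟨⟨1, 0, 0, 2, 1, 0, 1⟩, 52, 0, [⟨0, 0, 2, 1, 0, 2, 2⟩, ⟨0, 1, 1, 1,
  0, 1, 2⟩, ⟨0, 0, 0, 1, 1, 2, 0⟩, ⟨2, 0, 2, 0, 2, 1, 1⟩, ⟨0, 2, 0, 1, 1, 0, 1⟩, ⟨2, 1, 0, 0, 2, 1, 0⟩]⟩], 52⟩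

theorem ok17 : clsOk c17 = true := by decide +kernel

/-- class 21 -/
def c21 : Cls := ⟨[6, 4, 1, 7, 0, 2, 0, 6, 3, 5, 2, 0, 7, 1, 4, 6, 5, 3, 6, 0], ⟨⟨2, 1, 0, 1, 2, 2, 1⟩, ⟨2, 0,
  2, 0, 1, 1, 2⟩, ⟨0, 2, 1, 2, 0, 1, 1⟩, ⟨2, 0, 0, 2, 1, 0, 1⟩, ⟨0, 2, 2, 2, 1, 1, 1⟩, ⟨1, 1, 2, 0, 0, 1, 2⟩,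
  ⟨0, 1, 2, 1, 1, 2, 1⟩⟩, ⟨⟨1, 0, 0, 0, 0, 2, 0⟩, ⟨2, 2, 1, 1, 1, 0, 0⟩, ⟨0, 1, 0, 1, 2, 0, 1⟩, ⟨2, 2, 1, 0, 2,
  1, 0⟩, ⟨0, 2, 0, 2, 0, 2, 0⟩, ⟨2, 2, 1, 1, 2, 1, 0⟩, ⟨0, 0, 0, 0, 1, 2, 2⟩⟩, ⟨⟨1, 0, 1, 1, 2, 1, 2⟩, ⟨1, 0, 1,
  2, 2, 2, 0⟩, ⟨1, 2, 2, 1, 2, 2, 0⟩, ⟨0, 0, 2, 2, 2, 1, 2⟩, ⟨1, 2, 2, 1, 1, 1, 1⟩, ⟨2, 0, 2, 1, 0, 1, 0⟩, ⟨2,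
  0, 1, 1, 0, 1, 1⟩⟩, [84, 84, 252, 0, 3], [⟨⟨2, 1, 2, 0, 0, 1, 0⟩, 56, 0, [⟨1, 1, 0, 0, 2, 2, 2⟩, ⟨0, 0, 2, 1,
  1, 2, 2⟩, ⟨1, 1, 0, 1, 1, 0, 1⟩, ⟨0, 1, 0, 0, 0, 0, 0⟩, ⟨2, 0, 2, 0, 1, 1, 2⟩, ⟨2, 2, 1, 1, 1, 0, 0⟩]⟩], 56⟩

theorem ok21 : clsOk c21 = true := by decide +kernel

/-- class 25 -/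
def c25 : Cls := ⟨[6, 4, 1, 7, 0, 2, 5, 7, 1, 2, 0, 7, 1, 4, 6, 1, 7, 5], ⟨⟨2, 0, 2, 0, 2, 0, 1⟩, ⟨2, 1, 0, 2,
  1, 0, 2⟩, ⟨0, 0, 2, 0, 0, 0, 0⟩, ⟨0, 0, 0, 0, 1, 0, 1⟩, ⟨0, 0, 0, 0, 1, 0, 0⟩, ⟨2, 0, 1, 0, 0, 2, 2⟩, ⟨2, 0,
  1, 1, 1, 0, 2⟩⟩, ⟨⟨0, 0, 0, 1, 1, 0, 1⟩, ⟨1, 1, 0, 1, 1, 0, 1⟩, ⟨0, 0, 1, 0, 0, 0, 0⟩, ⟨2, 0, 1, 1, 2, 0, 2⟩,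
  ⟨0, 0, 0, 0, 1, 0, 0⟩, ⟨0, 0, 1, 2, 0, 1, 1⟩, ⟨2, 0, 2, 2, 2, 0, 1⟩⟩, ⟨⟨2, 0, 1, 1, 0, 0, 0⟩, ⟨0, 1, 0, 0, 0,
  0, 0⟩, ⟨0, 0, 2, 0, 0, 0, 0⟩, ⟨2, 0, 2, 2, 0, 0, 1⟩, ⟨0, 0, 0, 0, 1, 0, 0⟩, ⟨1, 0, 1, 1, 0, 2, 0⟩, ⟨0, 0, 0,
  1, 0, 0, 0⟩⟩, [54, 126, 288, 48, 27], [⟨⟨0, 2, 0, 0, 1, 1, 1⟩, 48, 0, [⟨2, 2, 2, 2, 1, 2, 2⟩, ⟨1, 2, 0, 0, 2,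
  1, 1⟩, ⟨1, 2, 1, 2, 1, 2, 0⟩, ⟨1, 2, 0, 1, 1, 1, 2⟩, ⟨0, 2, 2, 0, 2, 2, 0⟩]⟩, ⟨⟨2, 1, 1, 1, 0, 0, 2⟩, 2, 0,
  []⟩], 96⟩

theorem ok25 : clsOk c25 = true := by decide +kernel

/-- class 30 -/
def c30 : Cls := ⟨[6, 4, 1, 7, 0, 2, 2, 5, 6, 4, 1, 2, 0, 6, 3, 2, 0, 7, 1, 4, 6, 3, 6, 0, 2, 1, 4, 6, 5, 2],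
  ⟨⟨2, 0, 0, 0, 2, 0, 2⟩, ⟨2, 0, 2, 2, 1, 1, 0⟩, ⟨0, 2, 1, 1, 0, 1, 2⟩, ⟨2, 1, 1, 1, 1, 2, 2⟩, ⟨0, 2, 2, 1, 1,
  1, 2⟩, ⟨0, 1, 1, 2, 0, 1, 1⟩, ⟨0, 1, 1, 2, 1, 2, 0⟩⟩, ⟨⟨1, 0, 0, 0, 2, 0, 2⟩, ⟨2, 0, 1, 1, 1, 2, 0⟩, ⟨0, 0, 0,
  0, 2, 1, 2⟩, ⟨2, 0, 1, 1, 0, 2, 0⟩, ⟨0, 1, 0, 2, 0, 0, 0⟩, ⟨0, 0, 1, 0, 1, 0, 1⟩, ⟨0, 2, 0, 1, 1, 0, 1⟩⟩, ⟨⟨2,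
  0, 0, 0, 0, 0, 0⟩, ⟨0, 1, 0, 1, 0, 0, 0⟩, ⟨0, 1, 1, 2, 1, 1, 2⟩, ⟨0, 2, 1, 0, 2, 2, 1⟩, ⟨0, 2, 1, 1, 0, 2, 1⟩,
  ⟨0, 2, 1, 1, 2, 1, 1⟩, ⟨0, 1, 2, 2, 2, 1, 1⟩⟩, [156, 162, 198, 0, 27], [⟨⟨2, 1, 1, 0, 2, 2, 1⟩, 144, 0, [⟨0,
  0, 1, 2, 2, 2, 0⟩, ⟨1, 1, 0, 0, 1, 0, 0⟩, ⟨1, 2, 1, 0, 1, 2, 1⟩, ⟨0, 1, 1, 0, 0, 2, 2⟩, ⟨2, 0, 1, 2, 0, 2,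
  1⟩]⟩, ⟨⟨0, 2, 2, 0, 0, 2, 2⟩, 2, 0, []⟩], 288⟩

theorem ok30 : clsOk c30 = true := by decide +kernel

/-- class 34 -/
def c34 : Cls := ⟨[6, 4, 1, 7, 0, 2, 5, 0, 7, 2, 0, 7, 1, 4, 6, 7, 0, 5], ⟨⟨1, 0, 0, 0, 2, 1, 0⟩, ⟨2, 1, 0, 2,
  1, 0, 2⟩, ⟨1, 0, 1, 1, 0, 2, 0⟩, ⟨0, 0, 0, 1, 1, 0, 0⟩, ⟨0, 0, 0, 0, 1, 0, 0⟩, ⟨0, 0, 0, 0, 0, 1, 0⟩, ⟨0, 0,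
  0, 0, 1, 2, 1⟩⟩, ⟨⟨1, 0, 0, 0, 1, 2, 0⟩, ⟨1, 1, 0, 1, 1, 0, 1⟩, ⟨2, 0, 1, 2, 0, 2, 0⟩, ⟨0, 0, 0, 1, 2, 0, 0⟩,
  ⟨0, 0, 0, 0, 1, 0, 0⟩, ⟨0, 0, 0, 0, 0, 1, 0⟩, ⟨0, 0, 0, 0, 2, 1, 1⟩⟩, ⟨⟨1, 0, 0, 0, 0, 0, 0⟩, ⟨0, 1, 0, 0, 0,
  0, 0⟩, ⟨0, 0, 1, 0, 0, 0, 0⟩, ⟨0, 0, 0, 1, 0, 0, 0⟩, ⟨0, 0, 0, 0, 1, 0, 0⟩, ⟨0, 0, 0, 0, 0, 1, 0⟩, ⟨0, 0, 0,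
  0, 0, 0, 1⟩⟩, [0, 162, 162, 0, 27], [⟨⟨0, 0, 2, 2, 1, 1, 2⟩, 162, 0, [⟨2, 0, 2, 1, 2, 0, 2⟩, ⟨1, 0, 2, 0, 0,
  1, 2⟩]⟩, ⟨⟨1, 2, 2, 0, 2, 0, 2⟩, 18, 0, [⟨1, 2, 2, 0, 2, 0, 0⟩, ⟨1, 2, 2, 0, 0, 2, 1⟩]⟩, ⟨⟨0, 2, 2, 1, 2, 0,
  1⟩, 2, 0, []⟩], 5832⟩

theorem ok34 : clsOk c34 = true := by decide +kernel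

/-- class 38 -/
def c38 : Cls := ⟨[6, 4, 1, 7, 0, 2, 3, 4, 2, 7, 5, 0, 3, 2, 0, 7, 1, 4, 6, 3, 0, 5, 7, 2, 4, 3], ⟨⟨1, 0, 2, 0,
  1, 0, 2⟩, ⟨0, 2, 1, 0, 2, 2, 0⟩, ⟨0, 2, 2, 0, 1, 2, 0⟩, ⟨1, 2, 0, 2, 0, 2, 1⟩, ⟨2, 0, 2, 2, 2, 2, 2⟩, ⟨1, 0,
  0, 1, 1, 1, 2⟩, ⟨0, 0, 1, 0, 2, 0, 2⟩⟩, ⟨⟨0, 1, 1, 2, 0, 0, 2⟩, ⟨0, 0, 2, 0, 2, 0, 2⟩, ⟨1, 2, 2, 1, 1, 0, 0⟩,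
  ⟨2, 2, 2, 0, 0, 1, 1⟩, ⟨1, 2, 2, 1, 2, 2, 0⟩, ⟨2, 2, 0, 2, 2, 2, 2⟩, ⟨1, 2, 2, 1, 0, 0, 2⟩⟩, ⟨⟨2, 2, 2, 1, 1,
  2, 0⟩, ⟨1, 1, 1, 1, 1, 2, 2⟩, ⟨1, 1, 1, 1, 0, 0, 2⟩, ⟨0, 2, 2, 1, 2, 0, 2⟩, ⟨2, 1, 0, 2, 1, 1, 2⟩, ⟨1, 2, 0,
  1, 1, 2, 0⟩, ⟨2, 1, 1, 2, 2, 1, 1⟩⟩, [72, 144, 216, 0, 27], [⟨⟨2, 2, 2, 1, 2, 1, 1⟩, 72, 0, [⟨2, 1, 0, 1, 0,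
  0, 1⟩, ⟨0, 1, 0, 2, 0, 1, 1⟩, ⟨0, 0, 2, 2, 2, 1, 0⟩, ⟨1, 2, 2, 0, 1, 1, 2⟩]⟩, ⟨⟨2, 1, 1, 0, 1, 2, 2⟩, 4, 0,
  []⟩, ⟨⟨0, 2, 1, 0, 1, 1, 1⟩, 2, 0, []⟩], 576⟩

theorem ok38 : clsOk c38 = true := by decide +kernel

/-- class 45 -/
def c45 : Cls := ⟨[6, 4, 1, 7, 0, 2, 3, 4, 1, 2, 6, 5, 2, 0, 7, 1, 4, 6, 5, 6, 2, 1, 4, 3], ⟨⟨2, 2, 1, 0, 1, 1,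
  0⟩, ⟨0, 2, 0, 1, 1, 2, 1⟩, ⟨0, 2, 1, 0, 0, 0, 2⟩, ⟨0, 1, 1, 1, 2, 0, 1⟩, ⟨1, 2, 0, 0, 1, 1, 0⟩, ⟨0, 2, 1, 2,
  0, 0, 0⟩, ⟨2, 0, 1, 0, 2, 2, 0⟩⟩, ⟨⟨2, 2, 1, 1, 2, 1, 1⟩, ⟨0, 2, 1, 1, 1, 1, 0⟩, ⟨1, 0, 0, 2, 0, 2, 1⟩, ⟨1, 0,
  0, 2, 1, 0, 1⟩, ⟨0, 1, 2, 1, 1, 0, 2⟩, ⟨0, 2, 0, 1, 0, 1, 0⟩, ⟨0, 2, 2, 1, 1, 1, 2⟩⟩, ⟨⟨2, 2, 0, 2, 1, 1, 2⟩,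
  ⟨1, 2, 0, 2, 2, 2, 2⟩, ⟨1, 2, 0, 0, 1, 0, 2⟩, ⟨2, 0, 1, 2, 2, 1, 2⟩, ⟨2, 0, 2, 2, 2, 1, 0⟩, ⟨0, 1, 2, 2, 1, 1,
  0⟩, ⟨2, 1, 0, 2, 0, 0, 1⟩⟩, [36, 0, 270, 0, 27], [⟨⟨2, 1, 2, 0, 2, 0, 2⟩, 108, 0, [⟨1, 2, 0, 1, 0, 1, 2⟩, ⟨0,
  0, 2, 2, 0, 0, 0⟩, ⟨0, 0, 1, 2, 1, 0, 0⟩, ⟨1, 0, 0, 2, 2, 1, 1⟩, ⟨0, 1, 2, 1, 0, 2, 2⟩]⟩, ⟨⟨1, 0, 1, 0, 1, 2,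
  1⟩, 2, 0, []⟩], 216⟩

theorem ok45 : clsOk c45 = true := by decide +kernel

/-- class 49 -/
def c49 : Cls := ⟨[6, 4, 1, 7, 0, 2, 3, 1, 6, 2, 0, 7, 1, 4, 6, 6, 1, 3], ⟨⟨2, 2, 1, 1, 0, 1, 2⟩, ⟨0, 0, 1, 0,
  1, 0, 0⟩, ⟨2, 1, 0, 2, 2, 2, 0⟩, ⟨0, 1, 1, 1, 0, 2, 1⟩, ⟨0, 2, 0, 0, 0, 2, 1⟩, ⟨0, 1, 0, 0, 0, 2, 1⟩, ⟨2, 1,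
  2, 2, 0, 2, 2⟩⟩, ⟨⟨1, 0, 0, 0, 1, 0, 1⟩, ⟨2, 0, 0, 2, 2, 1, 1⟩, ⟨1, 0, 2, 1, 1, 2, 1⟩, ⟨1, 2, 1, 2, 0, 1, 2⟩,
  ⟨2, 0, 1, 2, 2, 0, 1⟩, ⟨2, 0, 0, 2, 1, 0, 1⟩, ⟨0, 0, 0, 0, 2, 0, 0⟩⟩, ⟨⟨1, 2, 0, 0, 0, 2, 2⟩, ⟨0, 0, 0, 0, 0,
  2, 2⟩, ⟨2, 1, 1, 2, 1, 0, 2⟩, ⟨2, 2, 0, 0, 1, 1, 0⟩, ⟨2, 0, 0, 2, 2, 2, 1⟩, ⟨0, 0, 0, 0, 0, 1, 0⟩, ⟨0, 1, 0,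
  0, 0, 1, 2⟩⟩, [0, 0, 324, 0, 27], [⟨⟨0, 0, 1, 1, 1, 1, 2⟩, 162, 0, [⟨0, 1, 2, 1, 2, 0, 1⟩, ⟨0, 2, 1, 1, 2, 0,
  2⟩, ⟨0, 2, 1, 1, 1, 0, 1⟩, ⟨1, 2, 2, 2, 1, 2, 1⟩]⟩, ⟨⟨1, 2, 2, 1, 0, 0, 2⟩, 2, 0, []⟩, ⟨⟨2, 1, 2, 1, 1, 2, 2⟩,
  2, 0, []⟩], 648⟩

theorem ok49 : clsOk c49 = true := by decide +kernel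

/-- class 55 -/
def c55 : Cls := ⟨[6, 4, 1, 7, 0, 2, 6, 0, 2, 6, 1, 3, 2, 2, 0, 7, 1, 4, 6, 2, 3, 1, 6, 2, 0, 6], ⟨⟨2, 1, 0, 2,
  2, 2, 2⟩, ⟨2, 0, 1, 1, 1, 1, 1⟩, ⟨1, 2, 2, 0, 2, 2, 2⟩, ⟨0, 1, 0, 2, 2, 1, 2⟩, ⟨0, 2, 0, 0, 0, 1, 1⟩, ⟨0, 0,
  0, 2, 2, 1, 0⟩, ⟨1, 2, 1, 1, 2, 2, 2⟩⟩, ⟨⟨2, 0, 0, 0, 2, 0, 0⟩, ⟨0, 0, 0, 0, 0, 2, 2⟩, ⟨1, 1, 2, 1, 1, 1, 2⟩,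
  ⟨1, 1, 0, 0, 2, 1, 2⟩, ⟨2, 2, 0, 2, 0, 2, 1⟩, ⟨0, 0, 0, 0, 0, 2, 0⟩, ⟨0, 0, 0, 0, 1, 0, 2⟩⟩, ⟨⟨1, 0, 0, 1, 1,
  0, 0⟩, ⟨2, 1, 2, 0, 2, 0, 1⟩, ⟨2, 0, 1, 0, 0, 2, 2⟩, ⟨0, 0, 0, 1, 0, 1, 0⟩, ⟨0, 0, 0, 0, 1, 0, 0⟩, ⟨0, 0, 0,
  1, 1, 2, 0⟩, ⟨2, 0, 2, 2, 1, 2, 2⟩⟩, [144, 0, 270, 0, 3], [⟨⟨0, 0, 0, 2, 2, 1, 1⟩, 144, 0, [⟨1, 2, 1, 1, 2, 1,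
  2⟩, ⟨0, 0, 0, 1, 2, 2, 2⟩, ⟨2, 0, 2, 2, 1, 0, 2⟩, ⟨2, 2, 0, 1, 1, 0, 2⟩]⟩, ⟨⟨1, 1, 1, 1, 2, 0, 1⟩, 4, 0, [⟨0,
  1, 1, 0, 0, 1, 2⟩]⟩], 576⟩

theorem ok55 : clsOk c55 = true := by decide +kernel

end Cfsg.Agent.H397.QS.O7
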