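import Cfsg.Agent.H397.QS.O7.Inv

/-!
# Class certificates for the isometry group of `F₃⁷` (part B)
-/

set_option autoImplicit false
set_option maxRecDepth 100000

namespace Cfsg.Agent.H397.QS.O7

/-- class 2 -/
def c2 : Cls := ⟨[6, 4, 1, 7, 0, 2, 4, 7, 0, 3, 2, 1, 6, 2, 7, 3, 0, 2, 4, 3, 2, 6, 1, 0, 2, 3, 1, 2, 0, 2, 4,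
  3, 1, 6, 2, 1, 6, 3, 4, 2, 2, 0, 7, 1, 4, 6, 2, 4, 3, 6, 1, 2, 6, 1, 3, 4, 2, 0, 2, 1, 3, 2, 0, 1, 6, 2, 3, 4,
  2, 0, 3, 7, 2, 6, 1, 2, 3, 0, 7, 4], ⟨⟨1, 0, 2, 1, 1, 0, 0⟩, ⟨1, 2, 0, 2, 2, 0, 2⟩, ⟨0, 0, 1, 0, 0, 0, 0⟩, ⟨0,
  0, 0, 2, 1, 0, 0⟩, ⟨0, 0, 0, 2, 0, 0, 0⟩, ⟨2, 0, 2, 0, 1, 1, 0⟩, ⟨1, 1, 1, 2, 2, 0, 0⟩⟩, ⟨⟨1, 0, 1, 2, 2, 0,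
  0⟩, ⟨2, 0, 1, 2, 2, 0, 1⟩, ⟨0, 0, 1, 0, 0, 0, 0⟩, ⟨0, 0, 0, 0, 2, 0, 0⟩, ⟨0, 0, 0, 1, 2, 0, 0⟩, ⟨1, 0, 2, 1,
  0, 1, 0⟩, ⟨2, 2, 0, 2, 2, 0, 2⟩⟩, ⟨⟨1, 0, 0, 0, 0, 0, 0⟩, ⟨0, 1, 0, 0, 0, 0, 0⟩, ⟨0, 0, 1, 0, 0, 0, 0⟩, ⟨0, 0,
  0, 1, 0, 0, 0⟩, ⟨0, 0, 0, 0, 1, 0, 0⟩, ⟨0, 0, 0, 0, 0, 1, 0⟩, ⟨0, 0, 0, 0, 0, 0, 1⟩⟩, [0, 0, 486, 0, 27],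
  [⟨⟨0, 1, 2, 0, 2, 0, 1⟩, 486, 0, [⟨2, 0, 0, 2, 1, 0, 2⟩, ⟨1, 2, 0, 0, 2, 0, 0⟩]⟩, ⟨⟨0, 2, 1, 1, 2, 1, 0⟩, 24,
  0, [⟨1, 1, 0, 1, 0, 1, 1⟩]⟩, ⟨⟨1, 1, 1, 1, 2, 2, 1⟩, 3, 0, [⟨1, 0, 2, 2, 2, 2, 2⟩]⟩], 34992⟩

theorem ok2 : clsOk c2 = true := by decide +kernel

/-- class 6 -/
def c6 : Cls := ⟨[6, 4, 1, 7, 0, 2, 0, 2, 0, 7, 1, 4, 6, 0], ⟨⟨1, 0, 0, 0, 0, 0, 0⟩, ⟨0, 1, 0, 0, 0, 0, 0⟩, ⟨0,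
  0, 1, 2, 0, 1, 1⟩, ⟨0, 0, 0, 1, 0, 2, 0⟩, ⟨0, 0, 0, 0, 1, 0, 0⟩, ⟨0, 0, 0, 0, 0, 1, 0⟩, ⟨0, 0, 0, 0, 0, 1,
  1⟩⟩, ⟨⟨1, 0, 0, 0, 0, 0, 0⟩, ⟨0, 1, 0, 0, 0, 0, 0⟩, ⟨0, 0, 1, 1, 0, 1, 2⟩, ⟨0, 0, 0, 1, 0, 1, 0⟩, ⟨0, 0, 0, 0,
  1, 0, 0⟩, ⟨0, 0, 0, 0, 0, 1, 0⟩, ⟨0, 0, 0, 0, 0, 2, 1⟩⟩, ⟨⟨1, 0, 0, 0, 0, 0, 0⟩, ⟨0, 1, 0, 0, 0, 0, 0⟩, ⟨0, 0,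
  1, 0, 0, 0, 0⟩, ⟨0, 0, 0, 1, 0, 0, 0⟩, ⟨0, 0, 0, 0, 1, 0, 0⟩, ⟨0, 0, 0, 0, 0, 1, 0⟩, ⟨0, 0, 0, 0, 0, 0, 1⟩⟩,
  [0, 486, 0, 0, 243], [⟨⟨2, 2, 1, 2, 0, 1, 0⟩, 486, 0, [⟨2, 2, 1, 1, 0, 0, 1⟩, ⟨2, 2, 1, 0, 0, 1, 2⟩]⟩, ⟨⟨1, 2,
  1, 1, 0, 1, 2⟩, 30, 0, []⟩, ⟨⟨1, 2, 2, 0, 0, 1, 0⟩, 12, 0, []⟩, ⟨⟨2, 2, 1, 0, 2, 2, 2⟩, 2, 0, []⟩, ⟨⟨0, 0, 0,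
  1, 0, 2, 0⟩, 2, 0, []⟩], 699840⟩

theorem ok6 : clsOk c6 = true := by decide +kernel

/-- class 10 -/
def c10 : Cls := ⟨[0], ⟨⟨2, 0, 0, 0, 0, 0, 0⟩, ⟨0, 2, 0, 0, 0, 0, 0⟩, ⟨0, 0, 2, 0, 0, 0, 0⟩, ⟨0, 0, 0, 0, 0, 0,
  2⟩, ⟨0, 0, 0, 0, 2, 0, 0⟩, ⟨0, 0, 0, 0, 0, 2, 0⟩, ⟨0, 0, 0, 2, 0, 0, 0⟩⟩, ⟨⟨1, 0, 0, 0, 0, 0, 0⟩, ⟨0, 1, 0, 0,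
  0, 0, 0⟩, ⟨0, 0, 1, 0, 0, 0, 0⟩, ⟨0, 0, 0, 1, 0, 0, 0⟩, ⟨0, 0, 0, 0, 1, 0, 0⟩, ⟨0, 0, 0, 0, 0, 1, 0⟩, ⟨0, 0,
  0, 0, 0, 0, 1⟩⟩, ⟨⟨2, 0, 0, 0, 0, 0, 0⟩, ⟨0, 2, 0, 0, 0, 0, 0⟩, ⟨0, 0, 2, 0, 0, 0, 0⟩, ⟨0, 0, 0, 0, 0, 0, 2⟩,
  ⟨0, 0, 0, 0, 2, 0, 0⟩, ⟨0, 0, 0, 0, 0, 2, 0⟩, ⟨0, 0, 0, 2, 0, 0, 0⟩⟩, [252, 0, 0, 0, 2187], [⟨⟨0, 2, 2, 1, 0,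
  2, 0⟩, 504, 0, [⟨0, 1, 1, 0, 0, 1, 2⟩]⟩, ⟨⟨2, 2, 0, 0, 0, 0, 0⟩, 72, 0, []⟩, ⟨⟨2, 2, 2, 1, 0, 1, 0⟩, 30, 0,
  []⟩, ⟨⟨1, 0, 0, 1, 0, 1, 0⟩, 12, 0, []⟩, ⟨⟨0, 2, 0, 2, 1, 1, 1⟩, 2, 0, []⟩, ⟨⟨0, 2, 1, 2, 0, 1, 1⟩, 2, 0,
  []⟩], 52254720⟩

theorem ok10 : clsOk c10 = true := by decide +kernel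

/-- class 14 -/
def c14 : Cls := ⟨[6, 4, 1, 7, 0, 2, 2, 6, 5, 2, 0, 7, 1, 4, 6, 5, 6, 2], ⟨⟨1, 0, 0, 0, 2, 1, 0⟩, ⟨2, 1, 0, 2,
  1, 0, 2⟩, ⟨1, 0, 1, 0, 0, 2, 1⟩, ⟨2, 0, 2, 1, 1, 0, 2⟩, ⟨0, 0, 0, 0, 1, 0, 0⟩, ⟨1, 0, 1, 2, 0, 1, 2⟩, ⟨1, 0,
  1, 0, 1, 2, 2⟩⟩, ⟨⟨2, 0, 1, 2, 1, 2, 2⟩, ⟨1, 1, 0, 1, 1, 0, 1⟩, ⟨2, 0, 1, 1, 0, 1, 1⟩, ⟨2, 0, 0, 1, 2, 1, 2⟩,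
  ⟨0, 0, 0, 0, 1, 0, 0⟩, ⟨0, 0, 2, 1, 0, 2, 2⟩, ⟨0, 0, 2, 1, 2, 0, 0⟩⟩, ⟨⟨2, 0, 0, 0, 0, 1, 1⟩, ⟨0, 1, 0, 0, 0,
  0, 0⟩, ⟨1, 0, 2, 0, 0, 1, 1⟩, ⟨1, 0, 2, 0, 0, 1, 2⟩, ⟨0, 0, 0, 0, 1, 0, 0⟩, ⟨2, 0, 2, 2, 0, 1, 0⟩, ⟨1, 0, 1,
  1, 0, 1, 1⟩⟩, [60, 126, 270, 0, 3], [⟨⟨0, 1, 0, 0, 2, 2, 0⟩, 60, 0, [⟨1, 1, 2, 0, 0, 2, 0⟩, ⟨1, 1, 1, 0, 0, 1,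
  2⟩, ⟨1, 1, 1, 1, 2, 2, 0⟩, ⟨2, 1, 2, 1, 0, 2, 0⟩, ⟨1, 1, 0, 1, 0, 2, 1⟩, ⟨2, 1, 2, 1, 2, 2, 1⟩]⟩], 60⟩

theorem ok14 : clsOk c14 = true := by decide +kernel

/-- class 18 -/
def c18 : Cls := ⟨[6, 4, 1, 7, 0, 2, 3, 7, 5, 2, 0, 7, 1, 4, 6, 5, 7, 3], ⟨⟨1, 0, 0, 0, 2, 1, 0⟩, ⟨0, 0, 0, 0,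
  1, 2, 0⟩, ⟨0, 0, 0, 1, 0, 0, 0⟩, ⟨0, 0, 0, 1, 1, 1, 0⟩, ⟨2, 2, 1, 2, 1, 0, 0⟩, ⟨0, 1, 1, 0, 0, 0, 1⟩, ⟨0, 2,
  2, 0, 1, 2, 0⟩⟩, ⟨⟨2, 2, 0, 1, 1, 1, 1⟩, ⟨2, 1, 0, 2, 1, 0, 2⟩, ⟨0, 0, 0, 1, 1, 1, 0⟩, ⟨2, 0, 2, 0, 2, 1, 1⟩,
  ⟨1, 2, 1, 2, 0, 2, 0⟩, ⟨0, 2, 2, 1, 2, 1, 0⟩, ⟨2, 1, 0, 1, 0, 1, 2⟩⟩, ⟨⟨1, 2, 1, 0, 0, 0, 1⟩, ⟨1, 0, 2, 1, 1,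
  1, 0⟩, ⟨2, 0, 2, 0, 2, 1, 1⟩, ⟨0, 1, 2, 0, 1, 1, 1⟩, ⟨1, 2, 2, 0, 0, 1, 2⟩, ⟨1, 2, 0, 1, 2, 2, 1⟩, ⟨2, 2, 2,
  1, 2, 0, 1⟩⟩, [84, 84, 252, 56, 3], [⟨⟨0, 2, 2, 0, 1, 0, 1⟩, 56, 0, [⟨2, 1, 0, 1, 1, 0, 0⟩, ⟨1, 2, 1, 0, 1, 2,
  0⟩, ⟨0, 1, 0, 0, 2, 2, 2⟩, ⟨1, 1, 2, 1, 2, 0, 2⟩, ⟨2, 2, 0, 1, 2, 2, 0⟩, ⟨0, 0, 1, 2, 0, 1, 2⟩]⟩], 56⟩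

theorem ok18 : clsOk c18 = true := by decide +kernel

/-- class 22 -/
def c22 : Cls := ⟨[6, 4, 1, 7, 0, 2, 6, 1, 5, 3, 2, 0, 7, 1, 4, 6, 3, 5, 1, 6], ⟨⟨2, 1, 0, 1, 2, 2, 1⟩, ⟨0, 0,
  1, 0, 1, 0, 0⟩, ⟨1, 1, 0, 1, 0, 2, 2⟩, ⟨0, 2, 2, 1, 1, 1, 2⟩, ⟨2, 2, 0, 2, 1, 2, 0⟩, ⟨0, 1, 0, 0, 0, 2, 1⟩,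
  ⟨2, 2, 0, 2, 1, 1, 0⟩⟩, ⟨⟨1, 0, 0, 0, 0, 2, 0⟩, ⟨0, 0, 0, 0, 1, 1, 2⟩, ⟨0, 0, 0, 0, 0, 0, 2⟩, ⟨2, 2, 1, 0, 0,
  2, 1⟩, ⟨0, 1, 0, 0, 0, 0, 2⟩, ⟨2, 1, 1, 2, 2, 2, 2⟩, ⟨0, 0, 0, 0, 0, 1, 1⟩⟩, ⟨⟨2, 0, 0, 1, 2, 0, 0⟩, ⟨0, 1, 0,
  0, 0, 0, 1⟩, ⟨1, 1, 0, 1, 2, 2, 0⟩, ⟨1, 1, 2, 2, 1, 2, 0⟩, ⟨1, 1, 1, 1, 0, 2, 0⟩, ⟨1, 2, 2, 1, 2, 0, 1⟩, ⟨2,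
  0, 0, 2, 1, 0, 1⟩⟩, [78, 156, 234, 26, 3], [⟨⟨1, 1, 0, 0, 1, 2, 1⟩, 52, 0, [⟨0, 1, 1, 2, 2, 0, 0⟩, ⟨2, 0, 2,
  1, 2, 2, 0⟩, ⟨1, 0, 2, 0, 1, 2, 1⟩, ⟨2, 0, 0, 1, 1, 1, 1⟩, ⟨2, 0, 2, 1, 1, 1, 2⟩, ⟨0, 1, 2, 2, 2, 0, 0⟩]⟩],
  52⟩

theorem ok22 : clsOk c22 = true := by decide +kernel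

/-- class 26 -/
def c26 : Cls := ⟨[6, 4, 1, 7, 0, 2, 6, 0, 2, 0, 7, 1, 4, 6, 0, 6], ⟨⟨2, 0, 2, 1, 0, 0, 0⟩, ⟨0, 1, 0, 0, 0, 0,
  0⟩, ⟨0, 0, 2, 0, 0, 0, 0⟩, ⟨2, 0, 0, 2, 0, 0, 1⟩, ⟨0, 0, 0, 0, 1, 0, 0⟩, ⟨1, 0, 1, 0, 0, 2, 1⟩, ⟨0, 0, 1, 1,
  0, 0, 0⟩⟩, ⟨⟨0, 0, 2, 1, 0, 0, 1⟩, ⟨0, 1, 0, 0, 0, 0, 0⟩, ⟨0, 0, 1, 0, 0, 0, 0⟩, ⟨2, 0, 2, 1, 0, 0, 2⟩, ⟨0, 0,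
  0, 0, 1, 0, 0⟩, ⟨1, 0, 1, 2, 0, 1, 2⟩, ⟨2, 0, 2, 2, 0, 0, 1⟩⟩, ⟨⟨2, 0, 2, 0, 0, 0, 1⟩, ⟨0, 1, 0, 0, 0, 0, 0⟩,
  ⟨0, 0, 2, 0, 0, 0, 0⟩, ⟨0, 0, 1, 0, 0, 0, 1⟩, ⟨0, 0, 0, 0, 1, 0, 0⟩, ⟨1, 0, 1, 1, 0, 2, 0⟩, ⟨2, 0, 0, 1, 0, 0,
  2⟩⟩, [18, 0, 288, 96, 243], [⟨⟨1, 1, 0, 1, 2, 2, 0⟩, 96, 0, [⟨0, 1, 1, 0, 2, 1, 0⟩, ⟨1, 1, 0, 0, 2, 2, 1⟩, ⟨1,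
  1, 2, 2, 2, 1, 2⟩]⟩, ⟨⟨2, 1, 0, 1, 1, 2, 1⟩, 4, 0, [⟨2, 1, 1, 2, 1, 1, 0⟩]⟩, ⟨⟨2, 1, 0, 2, 0, 2, 1⟩, 2, 0,
  []⟩], 768⟩

theorem ok26 : clsOk c26 = true := by decide +kernel

/-- class 31 -/
def c31 : Cls := ⟨[6, 4, 1, 7, 0, 2, 3, 2, 6, 7, 1, 0, 2, 0, 7, 1, 4, 6, 0, 1, 7, 6, 2, 3], ⟨⟨0, 2, 1, 2, 0, 0,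
  2⟩, ⟨2, 1, 2, 2, 1, 1, 1⟩, ⟨2, 2, 1, 2, 2, 2, 1⟩, ⟨0, 1, 1, 1, 0, 2, 1⟩, ⟨1, 1, 2, 1, 0, 1, 0⟩, ⟨1, 0, 2, 1,
  0, 1, 0⟩, ⟨1, 1, 2, 1, 0, 0, 2⟩⟩, ⟨⟨2, 2, 2, 1, 1, 2, 0⟩, ⟨0, 1, 2, 0, 2, 2, 2⟩, ⟨2, 1, 1, 2, 1, 0, 2⟩, ⟨1, 2,
  1, 2, 0, 1, 2⟩, ⟨1, 2, 2, 1, 2, 2, 0⟩, ⟨2, 1, 0, 2, 1, 1, 2⟩, ⟨2, 1, 1, 2, 2, 1, 1⟩⟩, ⟨⟨2, 0, 0, 1, 0, 2, 0⟩,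
  ⟨0, 0, 1, 0, 2, 0, 1⟩, ⟨1, 0, 1, 1, 0, 2, 0⟩, ⟨0, 1, 2, 1, 1, 0, 2⟩, ⟨0, 2, 1, 0, 0, 0, 1⟩, ⟨0, 1, 2, 0, 1, 1,
  2⟩, ⟨2, 0, 0, 2, 0, 1, 1⟩⟩, [108, 0, 126, 0, 243], [⟨⟨1, 2, 1, 2, 1, 0, 0⟩, 216, 0, [⟨1, 0, 1, 2, 1, 0, 1⟩,
  ⟨1, 2, 2, 2, 2, 1, 1⟩, ⟨0, 1, 2, 1, 0, 1, 1⟩]⟩, ⟨⟨0, 0, 2, 0, 0, 1, 2⟩, 8, 0, [⟨1, 0, 2, 1, 1, 2, 0⟩]⟩, ⟨⟨1,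
  2, 1, 1, 2, 0, 1⟩, 2, 0, []⟩], 3456⟩

theorem ok31 : clsOk c31 = true := by decide +kernel

/-- class 35 -/
def c35 : Cls := ⟨[6, 4, 1, 7, 0, 2, 6, 2, 3, 4, 5, 2, 0, 7, 1, 4, 6, 5, 4, 3, 2, 6], ⟨⟨2, 1, 1, 1, 1, 1, 1⟩,
  ⟨1, 0, 2, 1, 1, 1, 0⟩, ⟨0, 1, 0, 1, 0, 1, 0⟩, ⟨0, 0, 2, 2, 2, 1, 2⟩, ⟨0, 1, 1, 0, 1, 2, 1⟩, ⟨1, 2, 1, 0, 0, 2,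
  0⟩, ⟨2, 2, 0, 1, 2, 1, 1⟩⟩, ⟨⟨2, 2, 2, 1, 2, 1, 0⟩, ⟨0, 0, 2, 2, 1, 2, 1⟩, ⟨2, 2, 2, 0, 0, 1, 2⟩, ⟨2, 1, 1, 2,
  1, 0, 2⟩, ⟨2, 2, 2, 0, 1, 0, 2⟩, ⟨0, 0, 1, 1, 0, 2, 1⟩, ⟨0, 2, 2, 1, 1, 0, 1⟩⟩, ⟨⟨1, 2, 2, 2, 2, 1, 0⟩, ⟨1, 0,
  1, 1, 1, 2, 0⟩, ⟨2, 1, 1, 2, 2, 1, 1⟩, ⟨0, 2, 0, 1, 0, 1, 0⟩, ⟨1, 0, 1, 2, 0, 1, 2⟩, ⟨1, 1, 1, 1, 1, 1, 0⟩,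
  ⟨1, 2, 1, 1, 1, 2, 1⟩⟩, [18, 54, 288, 0, 27], [⟨⟨1, 1, 1, 1, 0, 2, 0⟩, 108, 0, [⟨2, 0, 1, 2, 1, 2, 0⟩, ⟨0, 2,
  0, 1, 1, 2, 1⟩, ⟨0, 1, 0, 2, 1, 1, 1⟩, ⟨1, 2, 2, 0, 2, 2, 0⟩, ⟨0, 0, 0, 2, 2, 1, 0⟩]⟩, ⟨⟨2, 0, 0, 2, 0, 2, 0⟩,
  2, 0, []⟩], 216⟩

theorem ok35 : clsOk c35 = true := by decide +kernel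

/-- class 42 -/
def c42 : Cls := ⟨[6, 4, 1, 7, 0, 2, 3, 0, 7, 1, 0, 2, 0, 7, 1, 4, 6, 0, 1, 7, 0, 3], ⟨⟨2, 1, 0, 2, 0, 0, 0⟩,
  ⟨1, 0, 2, 2, 1, 2, 2⟩, ⟨2, 0, 2, 0, 2, 1, 1⟩, ⟨0, 2, 2, 0, 0, 0, 0⟩, ⟨2, 2, 2, 1, 0, 0, 2⟩, ⟨2, 1, 2, 1, 0, 0,
  2⟩, ⟨2, 1, 2, 2, 0, 2, 2⟩⟩, ⟨⟨2, 0, 0, 0, 1, 2, 2⟩, ⟨1, 2, 0, 0, 1, 0, 0⟩, ⟨1, 2, 0, 0, 1, 1, 1⟩, ⟨0, 0, 2, 1,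
  0, 0, 0⟩, ⟨2, 0, 2, 0, 0, 1, 1⟩, ⟨1, 0, 0, 1, 2, 2, 2⟩, ⟨2, 1, 0, 0, 2, 2, 0⟩⟩, ⟨⟨2, 2, 1, 2, 0, 1, 1⟩, ⟨0, 0,
  0, 1, 2, 1, 0⟩, ⟨1, 2, 1, 1, 2, 0, 1⟩, ⟨1, 2, 0, 0, 1, 2, 2⟩, ⟨0, 1, 2, 1, 1, 1, 0⟩, ⟨2, 2, 2, 1, 0, 1, 0⟩,
  ⟨1, 2, 1, 1, 1, 2, 1⟩⟩, [54, 90, 234, 72, 27], [⟨⟨2, 0, 2, 2, 1, 0, 2⟩, 72, 0, [⟨2, 1, 2, 0, 1, 0, 2⟩, ⟨0, 0,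
  0, 2, 2, 2, 1⟩, ⟨1, 2, 2, 0, 0, 2, 1⟩, ⟨2, 1, 2, 1, 0, 2, 0⟩, ⟨1, 0, 0, 2, 2, 1, 2⟩]⟩, ⟨⟨2, 0, 0, 0, 2, 0, 1⟩,
  2, 0, []⟩], 144⟩

theorem ok42 : clsOk c42 = true := by decide +kernel

/-- class 46 -/
def c46 : Cls := ⟨[6, 4, 1, 7, 0, 2, 0, 1, 7, 2, 3, 5, 4, 1, 5, 4, 0, 1, 2, 3, 4, 5, 3, 6, 0, 1, 2, 6, 0, 6, 1,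
  2, 4, 5, 6, 3, 2, 1, 7, 4, 3, 6, 4, 3, 2, 3, 5, 2, 1, 4, 6, 2, 5, 4, 7, 3, 4, 6, 0, 2, 1, 3, 2, 0, 7, 1, 4, 6,
  3, 1, 2, 0, 6, 4, 3, 7, 4, 5, 2, 6, 4, 1, 2, 5, 3, 2, 3, 4, 6, 3, 4, 7, 1, 2, 3, 6, 5, 4, 2, 1, 6, 0, 6, 2, 1,
  0, 6, 3, 5, 4, 3, 2, 1, 0, 4, 5, 1, 4, 5, 3, 2, 7, 1, 0], ⟨⟨2, 1, 1, 0, 1, 2, 0⟩, ⟨1, 1, 0, 0, 2, 2, 2⟩, ⟨2,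
  0, 0, 2, 1, 0, 1⟩, ⟨0, 1, 1, 2, 1, 2, 0⟩, ⟨1, 2, 2, 2, 2, 0, 2⟩, ⟨1, 1, 0, 1, 0, 1, 2⟩, ⟨0, 0, 2, 2, 1, 1,
  2⟩⟩, ⟨⟨1, 1, 1, 0, 1, 2, 0⟩, ⟨1, 2, 0, 1, 0, 2, 2⟩, ⟨2, 0, 2, 2, 1, 0, 1⟩, ⟨0, 1, 1, 1, 1, 2, 0⟩, ⟨1, 0, 2, 1,
  0, 0, 2⟩, ⟨1, 1, 0, 1, 0, 0, 2⟩, ⟨0, 2, 2, 0, 2, 1, 1⟩⟩, ⟨⟨2, 0, 0, 0, 0, 0, 0⟩, ⟨0, 0, 0, 2, 2, 0, 0⟩, ⟨0, 0,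
  2, 0, 0, 0, 0⟩, ⟨0, 0, 0, 2, 0, 0, 0⟩, ⟨0, 2, 0, 1, 0, 0, 0⟩, ⟨0, 0, 0, 0, 0, 2, 0⟩, ⟨0, 1, 0, 2, 2, 0, 2⟩⟩,
  [252, 0, 0, 0, 243], [⟨⟨0, 2, 0, 1, 1, 0, 0⟩, 2, 2, []⟩, ⟨⟨1, 2, 0, 1, 2, 2, 0⟩, 36, 1, []⟩, ⟨⟨1, 2, 0, 0, 0,
  1, 1⟩, 18, 1, []⟩, ⟨⟨2, 0, 2, 1, 2, 1, 0⟩, 24, 0, [⟨2, 2, 1, 2, 0, 1, 2⟩]⟩, ⟨⟨0, 1, 2, 2, 1, 1, 1⟩, 3, 0, [⟨1,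
  0, 0, 1, 0, 2, 1⟩]⟩], 93312⟩

theorem ok46 : clsOk c46 = true := by decide +kernel

/-- class 52 -/
def c52 : Cls := ⟨[6, 4, 1, 7, 0, 2, 7, 3, 0, 2, 0, 7, 1, 4, 6, 0, 3, 7], ⟨⟨1, 1, 1, 0, 0, 0, 1⟩, ⟨0, 0, 0, 0,
  1, 2, 0⟩, ⟨1, 0, 0, 1, 2, 1, 2⟩, ⟨0, 1, 1, 1, 0, 2, 1⟩, ⟨0, 2, 1, 0, 0, 0, 1⟩, ⟨0, 1, 1, 0, 0, 0, 1⟩, ⟨0, 2,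
  2, 0, 0, 0, 0⟩⟩, ⟨⟨2, 0, 0, 1, 0, 0, 0⟩, ⟨0, 1, 0, 0, 0, 0, 0⟩, ⟨1, 2, 0, 1, 0, 2, 2⟩, ⟨1, 2, 2, 2, 0, 2, 2⟩,
  ⟨1, 2, 2, 1, 1, 2, 2⟩, ⟨1, 2, 2, 1, 0, 0, 2⟩, ⟨2, 0, 0, 2, 0, 0, 1⟩⟩, ⟨⟨2, 0, 0, 1, 0, 2, 0⟩, ⟨0, 0, 0, 0, 1,
  2, 0⟩, ⟨1, 2, 2, 1, 2, 0, 1⟩, ⟨0, 0, 0, 1, 0, 1, 0⟩, ⟨0, 1, 0, 0, 0, 2, 0⟩, ⟨0, 0, 0, 0, 0, 2, 0⟩, ⟨2, 0, 0,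
  2, 0, 1, 1⟩⟩, [54, 162, 234, 0, 243], [⟨⟨1, 0, 2, 0, 2, 2, 0⟩, 216, 0, [⟨0, 1, 2, 2, 1, 2, 0⟩, ⟨2, 0, 2, 1, 2,
  2, 0⟩, ⟨1, 0, 1, 0, 1, 1, 2⟩]⟩, ⟨⟨1, 2, 0, 0, 0, 0, 1⟩, 4, 0, [⟨1, 0, 0, 0, 2, 1, 1⟩]⟩, ⟨⟨0, 1, 1, 1, 2, 0,
  2⟩, 2, 0, []⟩], 1728⟩

theorem ok52 : clsOk c52 = true := by decide +kernel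

/-- class 56 -/
def c56 : Cls := ⟨[6, 4, 1, 7, 0, 2, 1, 2, 0, 3, 2, 4, 7, 5, 6, 2, 0, 7, 1, 4, 6, 6, 5, 7, 4, 2, 3, 0, 2, 1],
  ⟨⟨0, 1, 2, 0, 1, 0, 0⟩, ⟨0, 2, 1, 1, 1, 0, 1⟩, ⟨0, 0, 2, 0, 0, 0, 0⟩, ⟨2, 1, 2, 0, 2, 0, 1⟩, ⟨1, 2, 2, 0, 1,
  0, 0⟩, ⟨0, 2, 1, 1, 0, 2, 1⟩, ⟨2, 1, 2, 1, 2, 0, 0⟩⟩, ⟨⟨1, 1, 1, 1, 2, 0, 1⟩, ⟨2, 2, 1, 0, 1, 0, 0⟩, ⟨0, 0, 1,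
  0, 0, 0, 0⟩, ⟨1, 0, 0, 2, 1, 0, 1⟩, ⟨1, 1, 1, 2, 1, 0, 2⟩, ⟨1, 1, 1, 2, 0, 1, 2⟩, ⟨1, 0, 0, 1, 1, 0, 2⟩⟩, ⟨⟨0,
  0, 1, 2, 2, 0, 2⟩, ⟨1, 2, 1, 2, 2, 0, 2⟩, ⟨0, 0, 2, 0, 0, 0, 0⟩, ⟨1, 0, 1, 1, 2, 0, 2⟩, ⟨0, 0, 0, 0, 2, 0, 0⟩,
  ⟨2, 0, 2, 1, 1, 2, 1⟩, ⟨1, 0, 1, 2, 2, 0, 1⟩⟩, [90, 0, 324, 0, 243], [⟨⟨0, 0, 1, 2, 1, 2, 2⟩, 324, 0, [⟨0, 1,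
  2, 1, 0, 1, 1⟩, ⟨1, 0, 1, 0, 2, 2, 0⟩, ⟨2, 0, 1, 2, 0, 1, 2⟩]⟩, ⟨⟨2, 1, 0, 0, 2, 0, 1⟩, 6, 0, []⟩, ⟨⟨1, 1, 2,
  1, 1, 1, 0⟩, 4, 0, []⟩, ⟨⟨2, 2, 2, 0, 1, 1, 2⟩, 2, 0, []⟩], 15552⟩

theorem ok56 : clsOk c56 = true := by decide +kernel

end Cfsg.Agent.H397.QS.O7
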