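import Cfsg.Agent.H397.QS.O7.Inv

/-!
# Class certificates for the isometry group of `F₃⁷` (part C)
-/

set_option autoImplicit false
set_option maxRecDepth 100000

namespace Cfsg.Agent.H397.QS.O7

/-- class 3 -/
def c3 : Cls := ⟨[6, 4, 1, 7, 0, 2, 1, 3, 6, 4, 5, 2, 0, 7, 1, 4, 6, 5, 4, 6, 3, 1], ⟨⟨2, 0, 2, 1, 1, 0, 0⟩, ⟨0,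
  0, 1, 0, 1, 0, 0⟩, ⟨0, 0, 2, 0, 0, 0, 0⟩, ⟨0, 0, 0, 1, 2, 0, 0⟩, ⟨1, 1, 2, 1, 1, 0, 1⟩, ⟨0, 1, 0, 0, 0, 2, 1⟩,
  ⟨2, 0, 1, 2, 2, 0, 1⟩⟩, ⟨⟨2, 1, 1, 1, 2, 0, 1⟩, ⟨1, 1, 1, 1, 1, 0, 1⟩, ⟨0, 0, 1, 0, 0, 0, 0⟩, ⟨2, 2, 1, 0, 1,
  0, 2⟩, ⟨2, 1, 1, 2, 1, 0, 2⟩, ⟨2, 2, 2, 2, 0, 1, 0⟩, ⟨2, 2, 2, 2, 1, 0, 0⟩⟩, ⟨⟨2, 2, 0, 1, 0, 0, 0⟩, ⟨2, 1, 2,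
  2, 1, 0, 2⟩, ⟨0, 0, 2, 0, 0, 0, 0⟩, ⟨0, 1, 0, 1, 0, 0, 0⟩, ⟨0, 1, 2, 0, 0, 0, 0⟩, ⟨1, 1, 1, 1, 2, 2, 1⟩, ⟨2,
  1, 0, 2, 0, 0, 1⟩⟩, [12, 0, 252, 0, 27], [⟨⟨1, 2, 0, 2, 0, 2, 0⟩, 144, 0, [⟨2, 2, 1, 0, 1, 1, 2⟩, ⟨0, 2, 0, 1,
  0, 2, 1⟩, ⟨2, 2, 0, 0, 0, 1, 0⟩, ⟨1, 1, 0, 2, 1, 2, 1⟩, ⟨2, 0, 0, 0, 0, 1, 1⟩]⟩, ⟨⟨0, 2, 2, 0, 1, 1, 2⟩, 2, 0,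
  []⟩], 288⟩

theorem ok3 : clsOk c3 = true := by decide +kernel

/-- class 7 -/
def c7 : Cls := ⟨[6, 4, 1, 7, 0, 2, 1, 2, 0, 7, 1, 4, 6, 1], ⟨⟨0, 0, 1, 0, 0, 1, 2⟩, ⟨0, 1, 0, 0, 0, 0, 0⟩, ⟨2,
  0, 2, 1, 0, 2, 1⟩, ⟨1, 0, 2, 0, 0, 1, 2⟩, ⟨0, 0, 0, 0, 1, 0, 0⟩, ⟨2, 0, 1, 0, 0, 2, 2⟩, ⟨0, 0, 0, 1, 0, 1,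
  0⟩⟩, ⟨⟨1, 0, 0, 0, 0, 0, 0⟩, ⟨0, 1, 0, 0, 0, 0, 0⟩, ⟨0, 0, 1, 0, 0, 0, 0⟩, ⟨0, 0, 0, 1, 0, 0, 0⟩, ⟨0, 0, 0, 0,
  1, 0, 0⟩, ⟨0, 0, 0, 0, 0, 1, 0⟩, ⟨0, 0, 0, 0, 0, 0, 1⟩⟩, ⟨⟨0, 0, 1, 0, 0, 1, 2⟩, ⟨0, 1, 0, 0, 0, 0, 0⟩, ⟨2, 0,
  2, 1, 0, 2, 1⟩, ⟨1, 0, 2, 0, 0, 1, 2⟩, ⟨0, 0, 0, 0, 1, 0, 0⟩, ⟨2, 0, 1, 0, 0, 2, 2⟩, ⟨0, 0, 0, 1, 0, 1, 0⟩⟩,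
  [324, 0, 288, 0, 2187], [⟨⟨1, 1, 0, 0, 1, 0, 1⟩, 288, 0, [⟨0, 1, 1, 1, 1, 2, 2⟩]⟩, ⟨⟨1, 1, 1, 0, 0, 2, 0⟩, 30,
  0, []⟩, ⟨⟨0, 0, 2, 2, 1, 1, 1⟩, 12, 0, []⟩, ⟨⟨0, 0, 2, 2, 1, 2, 1⟩, 4, 0, [⟨1, 0, 1, 0, 1, 2, 1⟩]⟩, ⟨⟨0, 0, 2,
  2, 2, 2, 0⟩, 2, 0, []⟩], 829440⟩

theorem ok7 : clsOk c7 = true := by decide +kernel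

/-- class 11 -/
def c11 : Cls := ⟨[6, 4, 1, 7, 0, 2, 6, 2, 3, 2, 1, 2, 2, 0, 7, 1, 4, 6, 2, 1, 2, 3, 2, 6], ⟨⟨0, 2, 0, 0, 2, 0,
  0⟩, ⟨2, 2, 0, 1, 1, 2, 0⟩, ⟨2, 1, 2, 1, 2, 1, 1⟩, ⟨2, 1, 2, 2, 2, 2, 1⟩, ⟨0, 0, 1, 0, 0, 0, 2⟩, ⟨1, 1, 1, 0,
  2, 0, 1⟩, ⟨1, 1, 2, 0, 2, 0, 2⟩⟩, ⟨⟨1, 1, 2, 2, 2, 1, 1⟩, ⟨2, 2, 2, 1, 0, 0, 2⟩, ⟨1, 2, 2, 2, 0, 0, 1⟩, ⟨1, 1,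
  2, 1, 1, 2, 0⟩, ⟨1, 0, 0, 1, 0, 1, 2⟩, ⟨2, 0, 0, 2, 1, 0, 1⟩, ⟨2, 2, 1, 0, 2, 1, 1⟩⟩, ⟨⟨0, 1, 1, 1, 0, 2, 2⟩,
  ⟨0, 1, 1, 0, 1, 2, 1⟩, ⟨1, 2, 1, 2, 2, 1, 0⟩, ⟨1, 0, 0, 2, 1, 0, 1⟩, ⟨2, 0, 1, 2, 1, 2, 0⟩, ⟨2, 1, 1, 1, 1, 1,
  0⟩, ⟨2, 2, 1, 0, 0, 2, 2⟩⟩, [216, 0, 288, 0, 243], [⟨⟨0, 1, 2, 2, 1, 2, 1⟩, 144, 0, [⟨1, 0, 1, 1, 0, 2, 1⟩,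
  ⟨1, 1, 2, 0, 0, 0, 0⟩]⟩, ⟨⟨1, 1, 0, 1, 2, 1, 1⟩, 12, 0, [⟨0, 1, 1, 0, 0, 1, 2⟩, ⟨1, 0, 1, 2, 0, 0, 0⟩]⟩, ⟨⟨2,
  1, 1, 1, 2, 1, 0⟩, 2, 0, []⟩], 3456⟩

theorem ok11 : clsOk c11 = true := by decide +kernel

/-- class 15 -/
def c15 : Cls := ⟨[6, 4, 1, 7, 0, 2, 1, 5, 4, 7, 3, 2, 0, 7, 1, 4, 6, 3, 7, 4, 5, 1], ⟨⟨1, 0, 2, 0, 2, 0, 2⟩,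
  ⟨1, 0, 2, 1, 1, 1, 0⟩, ⟨1, 2, 1, 2, 0, 1, 2⟩, ⟨2, 1, 1, 1, 1, 2, 2⟩, ⟨1, 2, 2, 2, 1, 1, 2⟩, ⟨0, 1, 2, 1, 0, 1,
  1⟩, ⟨1, 1, 2, 2, 1, 2, 0⟩⟩, ⟨⟨1, 1, 0, 0, 0, 2, 1⟩, ⟨0, 2, 0, 2, 1, 0, 2⟩, ⟨1, 1, 0, 2, 2, 0, 0⟩, ⟨0, 0, 0, 0,
  0, 2, 0⟩, ⟨0, 2, 0, 0, 0, 2, 1⟩, ⟨0, 1, 0, 0, 0, 2, 1⟩, ⟨0, 1, 2, 2, 0, 1, 2⟩⟩, ⟨⟨0, 0, 1, 2, 1, 2, 1⟩, ⟨0, 0,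
  0, 1, 1, 2, 0⟩, ⟨2, 0, 1, 1, 1, 1, 1⟩, ⟨0, 2, 1, 2, 0, 2, 2⟩, ⟨0, 0, 1, 0, 0, 0, 2⟩, ⟨2, 0, 2, 2, 2, 2, 2⟩,
  ⟨0, 0, 0, 0, 2, 0, 0⟩⟩, [60, 120, 234, 80, 3], [⟨⟨2, 1, 2, 2, 1, 0, 1⟩, 80, 0, [⟨2, 0, 2, 2, 0, 1, 2⟩, ⟨1, 0,
  2, 2, 2, 2, 1⟩, ⟨1, 1, 1, 2, 1, 0, 1⟩, ⟨0, 1, 2, 0, 1, 0, 1⟩, ⟨2, 1, 2, 0, 0, 0, 0⟩, ⟨2, 1, 2, 2, 2, 0, 2⟩]⟩],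
  80⟩

theorem ok15 : clsOk c15 = true := by decide +kernel

/-- class 19 -/
def c19 : Cls := ⟨[6, 4, 1, 7, 0, 2, 3, 2, 6, 7, 5, 1, 0, 2, 0, 7, 1, 4, 6, 0, 1, 5, 7, 6, 2, 3], ⟨⟨0, 1, 0, 2,
  2, 1, 1⟩, ⟨2, 1, 2, 2, 1, 1, 1⟩, ⟨1, 2, 1, 1, 0, 2, 0⟩, ⟨0, 2, 2, 1, 1, 1, 2⟩, ⟨0, 1, 2, 0, 1, 1, 2⟩, ⟨1, 0,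
  2, 1, 0, 1, 0⟩, ⟨1, 2, 0, 1, 1, 2, 0⟩⟩, ⟨⟨1, 0, 0, 0, 0, 2, 0⟩, ⟨0, 2, 0, 0, 0, 1, 0⟩, ⟨1, 1, 2, 1, 2, 2, 2⟩,
  ⟨0, 1, 0, 1, 0, 1, 0⟩, ⟨1, 1, 2, 1, 1, 2, 0⟩, ⟨0, 1, 0, 0, 0, 1, 0⟩, ⟨0, 0, 0, 0, 0, 1, 1⟩⟩, ⟨⟨2, 1, 1, 1, 2,
  0, 1⟩, ⟨2, 2, 0, 2, 2, 0, 2⟩, ⟨2, 2, 2, 2, 2, 0, 2⟩, ⟨0, 0, 0, 1, 2, 0, 0⟩, ⟨0, 0, 0, 0, 2, 1, 0⟩, ⟨0, 1, 1,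
  0, 1, 2, 1⟩, ⟨2, 2, 2, 2, 1, 0, 0⟩⟩, [66, 96, 252, 40, 27], [⟨⟨0, 0, 2, 2, 2, 2, 2⟩, 32, 0, [⟨0, 2, 2, 2, 0,
  2, 2⟩, ⟨1, 2, 2, 0, 0, 2, 0⟩, ⟨2, 1, 1, 1, 1, 0, 0⟩, ⟨0, 2, 1, 2, 1, 1, 1⟩, ⟨1, 2, 1, 0, 0, 1, 2⟩]⟩, ⟨⟨2, 1,
  1, 1, 0, 0, 1⟩, 2, 0, []⟩], 64⟩

theorem ok19 : clsOk c19 = true := by decide +kernel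

/-- class 23 -/
def c23 : Cls := ⟨[6, 4, 1, 7, 0, 2, 2, 6, 3, 5, 1, 2, 3, 0, 6, 2, 0, 7, 1, 4, 6, 6, 0, 3, 2, 1, 5, 3, 6, 2],
  ⟨⟨0, 2, 0, 0, 2, 2, 2⟩, ⟨2, 2, 1, 2, 1, 2, 2⟩, ⟨1, 0, 1, 2, 0, 2, 0⟩, ⟨2, 2, 1, 2, 1, 0, 0⟩, ⟨2, 0, 0, 2, 1,
  0, 1⟩, ⟨0, 0, 2, 1, 0, 1, 1⟩, ⟨0, 1, 1, 0, 1, 2, 1⟩⟩, ⟨⟨2, 0, 2, 1, 0, 1, 1⟩, ⟨2, 2, 2, 2, 2, 1, 1⟩, ⟨2, 0, 1,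
  2, 1, 0, 1⟩, ⟨2, 0, 2, 0, 0, 1, 0⟩, ⟨0, 0, 0, 0, 2, 0, 0⟩, ⟨1, 0, 0, 1, 2, 1, 2⟩, ⟨2, 0, 1, 2, 0, 2, 0⟩⟩, ⟨⟨1,
  1, 0, 1, 0, 2, 0⟩, ⟨2, 1, 0, 2, 2, 0, 0⟩, ⟨1, 0, 1, 2, 2, 2, 0⟩, ⟨2, 1, 1, 2, 1, 0, 2⟩, ⟨1, 0, 0, 1, 2, 0, 2⟩,
  ⟨0, 0, 2, 1, 1, 1, 1⟩, ⟨2, 2, 1, 2, 0, 2, 0⟩⟩, [60, 144, 216, 0, 27], [⟨⟨1, 2, 2, 0, 0, 0, 0⟩, 96, 0, [⟨0, 0,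
  1, 2, 1, 1, 0⟩, ⟨1, 1, 2, 0, 0, 0, 2⟩, ⟨1, 0, 2, 0, 2, 0, 0⟩, ⟨0, 2, 2, 2, 1, 0, 1⟩, ⟨0, 0, 1, 2, 0, 1, 0⟩]⟩,
  ⟨⟨0, 0, 2, 2, 0, 1, 2⟩, 2, 0, []⟩], 192⟩

theorem ok23 : clsOk c23 = true := by decide +kernel

/-- class 27 -/
def c27 : Cls := ⟨[6, 4, 1, 7, 0, 2, 6, 3, 0, 2, 0, 7, 1, 4, 6, 0, 3, 6], ⟨⟨2, 2, 1, 1, 0, 1, 2⟩, ⟨2, 0, 2, 0,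
  1, 1, 2⟩, ⟨1, 2, 1, 0, 2, 1, 2⟩, ⟨2, 2, 2, 2, 0, 1, 0⟩, ⟨1, 2, 2, 0, 0, 1, 2⟩, ⟨1, 1, 2, 0, 0, 1, 2⟩, ⟨0, 0,
  1, 1, 0, 0, 0⟩⟩, ⟨⟨0, 0, 1, 0, 1, 1, 0⟩, ⟨2, 2, 1, 1, 1, 0, 0⟩, ⟨1, 0, 2, 0, 1, 1, 2⟩, ⟨0, 1, 2, 0, 0, 0, 2⟩,
  ⟨0, 1, 2, 0, 0, 0, 0⟩, ⟨1, 1, 0, 0, 2, 2, 1⟩, ⟨0, 1, 0, 2, 2, 2, 2⟩⟩, ⟨⟨0, 2, 2, 0, 2, 0, 0⟩, ⟨0, 1, 2, 1, 1,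
  1, 0⟩, ⟨0, 0, 0, 0, 1, 2, 1⟩, ⟨1, 1, 0, 2, 2, 0, 0⟩, ⟨1, 1, 1, 0, 2, 0, 0⟩, ⟨2, 2, 0, 2, 1, 0, 0⟩, ⟨1, 1, 1,
  0, 1, 1, 1⟩⟩, [0, 144, 270, 0, 3], [⟨⟨0, 2, 1, 1, 2, 0, 2⟩, 72, 0, [⟨0, 2, 1, 1, 1, 0, 1⟩, ⟨2, 0, 1, 0, 1, 2,
  2⟩, ⟨2, 1, 2, 1, 2, 0, 0⟩, ⟨0, 2, 0, 1, 2, 2, 2⟩, ⟨1, 2, 1, 1, 2, 1, 0⟩, ⟨0, 2, 2, 0, 1, 2, 2⟩]⟩], 72⟩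

theorem ok27 : clsOk c27 = true := by decide +kernel

/-- class 32 -/
def c32 : Cls := ⟨[6, 4, 1, 7, 0, 2, 0, 7, 2, 0, 7, 1, 4, 6, 7, 0], ⟨⟨1, 0, 0, 0, 0, 1, 0⟩, ⟨0, 1, 0, 0, 0, 0,
  0⟩, ⟨1, 0, 1, 1, 0, 2, 0⟩, ⟨0, 0, 0, 1, 0, 0, 0⟩, ⟨0, 0, 0, 0, 1, 0, 0⟩, ⟨0, 0, 0, 0, 0, 1, 0⟩, ⟨0, 0, 0, 0,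
  0, 2, 1⟩⟩, ⟨⟨1, 0, 0, 0, 0, 2, 0⟩, ⟨0, 1, 0, 0, 0, 0, 0⟩, ⟨2, 0, 1, 2, 0, 2, 0⟩, ⟨0, 0, 0, 1, 0, 0, 0⟩, ⟨0, 0,
  0, 0, 1, 0, 0⟩, ⟨0, 0, 0, 0, 0, 1, 0⟩, ⟨0, 0, 0, 0, 0, 1, 1⟩⟩, ⟨⟨1, 0, 0, 0, 0, 0, 0⟩, ⟨0, 1, 0, 0, 0, 0, 0⟩,
  ⟨0, 0, 1, 0, 0, 0, 0⟩, ⟨0, 0, 0, 1, 0, 0, 0⟩, ⟨0, 0, 0, 0, 1, 0, 0⟩, ⟨0, 0, 0, 0, 0, 1, 0⟩, ⟨0, 0, 0, 0, 0, 0,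
  1⟩⟩, [0, 0, 486, 0, 243], [⟨⟨2, 1, 2, 1, 0, 2, 1⟩, 486, 0, [⟨1, 1, 2, 0, 0, 1, 1⟩, ⟨0, 1, 2, 2, 0, 2, 1⟩]⟩,
  ⟨⟨1, 2, 0, 2, 1, 1, 1⟩, 24, 0, []⟩, ⟨⟨0, 0, 0, 2, 0, 1, 1⟩, 6, 0, []⟩, ⟨⟨0, 0, 0, 1, 1, 0, 1⟩, 4, 0, []⟩, ⟨⟨1,
  1, 1, 0, 0, 1, 0⟩, 2, 0, []⟩], 559872⟩

theorem ok32 : clsOk c32 = true := by decide +kernel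

/-- class 36 -/
def c36 : Cls := ⟨[6, 4, 1, 7, 0, 2, 6, 3, 2, 0, 7, 1, 4, 6, 3, 6], ⟨⟨2, 2, 1, 1, 0, 1, 2⟩, ⟨2, 0, 2, 0, 1, 1,
  2⟩, ⟨1, 2, 1, 1, 2, 0, 1⟩, ⟨0, 0, 1, 2, 0, 2, 2⟩, ⟨1, 2, 2, 0, 0, 1, 2⟩, ⟨1, 1, 2, 0, 0, 1, 2⟩, ⟨2, 2, 2, 1,
  0, 2, 1⟩⟩, ⟨⟨2, 2, 2, 1, 1, 2, 0⟩, ⟨0, 0, 0, 0, 1, 2, 0⟩, ⟨2, 1, 1, 2, 1, 0, 2⟩, ⟨1, 2, 2, 1, 2, 1, 2⟩, ⟨1, 2,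
  1, 2, 0, 2, 0⟩, ⟨2, 2, 2, 2, 2, 1, 1⟩, ⟨2, 0, 0, 1, 0, 1, 2⟩⟩, ⟨⟨1, 0, 0, 0, 0, 0, 0⟩, ⟨0, 1, 0, 0, 0, 0, 0⟩,
  ⟨0, 0, 1, 0, 0, 0, 0⟩, ⟨0, 0, 0, 1, 0, 0, 0⟩, ⟨0, 0, 0, 0, 1, 0, 0⟩, ⟨0, 0, 0, 0, 0, 1, 0⟩, ⟨0, 0, 0, 0, 0, 0,
  1⟩⟩, [0, 324, 324, 0, 27], [⟨⟨2, 0, 0, 0, 1, 2, 2⟩, 324, 0, [⟨2, 0, 0, 1, 0, 0, 0⟩, ⟨1, 1, 0, 1, 0, 1, 0⟩]⟩,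
  ⟨⟨1, 1, 1, 0, 1, 2, 2⟩, 18, 0, [⟨0, 0, 2, 1, 0, 0, 1⟩, ⟨1, 0, 2, 2, 1, 1, 2⟩]⟩, ⟨⟨2, 0, 0, 2, 1, 2, 2⟩, 2, 0,
  []⟩], 11664⟩

theorem ok36 : clsOk c36 = true := by decide +kernel

/-- class 43 -/
def c43 : Cls := ⟨[6, 4, 1, 7, 0, 2, 3, 4, 1, 2, 3, 6, 2, 0, 7, 1, 4, 6, 6, 3, 2, 1, 4, 3], ⟨⟨1, 1, 2, 2, 0, 1,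
  2⟩, ⟨0, 2, 0, 1, 1, 2, 1⟩, ⟨1, 2, 2, 0, 0, 1, 0⟩, ⟨0, 2, 2, 1, 0, 2, 2⟩, ⟨1, 0, 2, 0, 0, 1, 0⟩, ⟨0, 0, 0, 0,
  2, 0, 2⟩, ⟨1, 1, 1, 2, 0, 0, 1⟩⟩, ⟨⟨2, 1, 0, 0, 0, 0, 2⟩, ⟨2, 1, 2, 2, 0, 1, 0⟩, ⟨0, 0, 0, 1, 1, 1, 0⟩, ⟨1, 0,
  2, 1, 0, 2, 1⟩, ⟨0, 2, 0, 2, 2, 0, 1⟩, ⟨1, 2, 0, 1, 0, 2, 2⟩, ⟨0, 1, 0, 1, 1, 2, 2⟩⟩, ⟨⟨1, 0, 0, 0, 1, 1, 1⟩,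
  ⟨1, 0, 0, 1, 0, 1, 2⟩, ⟨1, 2, 1, 1, 2, 0, 1⟩, ⟨1, 2, 0, 2, 1, 2, 0⟩, ⟨0, 0, 0, 0, 2, 1, 1⟩, ⟨0, 0, 0, 0, 0, 1,
  0⟩, ⟨0, 0, 0, 0, 2, 2, 0⟩⟩, [162, 162, 162, 0, 27], [⟨⟨0, 1, 2, 1, 2, 0, 0⟩, 162, 0, [⟨1, 2, 1, 2, 1, 2, 0⟩,
  ⟨0, 2, 1, 0, 0, 2, 0⟩, ⟨1, 0, 2, 2, 0, 2, 0⟩, ⟨0, 0, 1, 1, 1, 1, 1⟩]⟩, ⟨⟨0, 2, 2, 2, 0, 0, 0⟩, 4, 0, []⟩, ⟨⟨1,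
  2, 2, 0, 2, 1, 1⟩, 2, 0, []⟩], 1296⟩

theorem ok43 : clsOk c43 = true := by decide +kernel

/-- class 47 -/
def c47 : Cls := ⟨[6, 4, 1, 7, 0, 2, 6, 2, 5, 4, 3, 6, 2, 0, 7, 1, 4, 6, 6, 3, 4, 5, 2, 6], ⟨⟨0, 0, 2, 1, 2, 1,
  2⟩, ⟨2, 0, 2, 0, 1, 1, 2⟩, ⟨1, 0, 0, 2, 0, 2, 1⟩, ⟨0, 0, 1, 1, 1, 0, 0⟩, ⟨1, 2, 1, 0, 1, 0, 1⟩, ⟨2, 2, 2, 2,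
  0, 1, 0⟩, ⟨0, 2, 0, 1, 1, 1, 1⟩⟩, ⟨⟨0, 1, 2, 0, 2, 1, 0⟩, ⟨2, 2, 1, 1, 1, 0, 0⟩, ⟨1, 0, 2, 2, 2, 1, 0⟩, ⟨2, 2,
  2, 0, 2, 2, 2⟩, ⟨0, 1, 1, 1, 0, 0, 0⟩, ⟨2, 2, 0, 1, 2, 0, 1⟩, ⟨1, 0, 2, 1, 2, 1, 0⟩⟩, ⟨⟨2, 0, 0, 0, 0, 0, 0⟩,
  ⟨0, 2, 1, 2, 2, 0, 1⟩, ⟨0, 0, 2, 0, 0, 0, 0⟩, ⟨0, 0, 2, 0, 1, 0, 2⟩, ⟨0, 0, 0, 0, 2, 0, 0⟩, ⟨0, 0, 2, 1, 1, 2,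
  2⟩, ⟨0, 0, 1, 2, 2, 0, 0⟩⟩, [36, 108, 324, 0, 27], [⟨⟨2, 0, 2, 2, 0, 2, 0⟩, 216, 0, [⟨0, 1, 1, 0, 0, 2, 0⟩,
  ⟨1, 1, 0, 0, 1, 2, 0⟩, ⟨1, 0, 0, 2, 1, 1, 2⟩]⟩, ⟨⟨0, 0, 2, 2, 1, 0, 1⟩, 6, 0, [⟨0, 1, 0, 1, 1, 2, 1⟩, ⟨1, 2,
  2, 0, 1, 1, 1⟩]⟩], 1296⟩

theorem ok47 : clsOk c47 = true := by decide +kernel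

/-- class 53 -/
def c53 : Cls := ⟨[6, 4, 1, 7, 0, 2, 4, 0, 6, 2, 3, 4, 0, 7, 5, 2, 6, 2, 1, 0, 3, 2, 1, 4, 7, 3, 4, 5, 2, 3, 4,
  6, 2, 3, 1, 6, 2, 3, 4, 6, 7, 3, 2, 5, 6, 2, 0, 7, 1, 4, 6, 6, 5, 2, 3, 7, 6, 4, 3, 2, 6, 1, 3, 2, 6, 4, 3, 2,
  5, 4, 3, 7, 4, 1, 2, 3, 0, 1, 2, 6, 2, 5, 7, 0, 4, 3, 2, 6, 0, 4], ⟨⟨2, 0, 1, 2, 1, 1, 1⟩, ⟨1, 2, 0, 0, 1, 1,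
  1⟩, ⟨0, 2, 2, 1, 2, 1, 0⟩, ⟨2, 1, 0, 1, 0, 1, 2⟩, ⟨2, 2, 0, 1, 0, 0, 2⟩, ⟨2, 1, 1, 1, 1, 1, 0⟩, ⟨2, 0, 2, 1,
  1, 1, 0⟩⟩, ⟨⟨2, 1, 1, 1, 0, 1, 2⟩, ⟨1, 1, 1, 2, 2, 2, 2⟩, ⟨1, 2, 2, 0, 1, 0, 2⟩, ⟨1, 1, 1, 2, 0, 1, 2⟩, ⟨0, 2,
  0, 1, 0, 1, 0⟩, ⟨2, 2, 2, 2, 0, 0, 1⟩, ⟨1, 2, 1, 0, 1, 0, 0⟩⟩, ⟨⟨1, 0, 0, 0, 2, 2, 2⟩, ⟨1, 0, 0, 2, 2, 0, 1⟩,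
  ⟨1, 1, 0, 1, 0, 1, 2⟩, ⟨1, 1, 2, 2, 1, 2, 0⟩, ⟨0, 0, 1, 2, 0, 1, 1⟩, ⟨0, 1, 2, 0, 0, 0, 2⟩, ⟨0, 2, 0, 1, 2, 1,
  2⟩⟩, [72, 0, 342, 0, 243], [⟨⟨0, 1, 0, 0, 2, 2, 0⟩, 144, 0, [⟨0, 2, 2, 1, 0, 0, 2⟩, ⟨2, 0, 2, 2, 2, 1, 1⟩, ⟨1,
  2, 0, 0, 2, 2, 1⟩]⟩, ⟨⟨1, 0, 0, 1, 0, 2, 1⟩, 6, 0, []⟩, ⟨⟨1, 2, 0, 2, 1, 0, 1⟩, 4, 0, []⟩, ⟨⟨1, 2, 0, 1, 1, 0,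
  0⟩, 2, 0, []⟩], 6912⟩

theorem ok53 : clsOk c53 = true := by decide +kernel

/-- class 57 -/
def c57 : Cls := ⟨[6, 4, 1, 7, 0, 2, 4, 2, 3, 4, 6, 2, 3, 6, 1, 2, 5, 6, 4, 0, 1, 2, 0, 4, 5, 1, 4, 3, 5, 4, 2,
  3, 6, 5, 2, 1, 4, 3, 4, 5, 4, 6, 5, 2, 3, 7, 6, 4, 3, 2, 6, 1, 3, 2, 6, 4, 1, 0, 1, 2, 0, 7, 1, 4, 6, 1, 0, 1,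
  4, 6, 2, 3, 1, 6, 2, 3, 4, 6, 7, 3, 2, 5, 6, 4, 5, 4, 3, 4, 1, 2, 5, 6, 3, 2, 4, 5, 3, 4, 1, 5, 4, 0, 2, 1, 0,
  4, 6, 5, 2, 1, 6, 3, 2, 6, 4, 3, 2, 4], ⟨⟨0, 0, 0, 2, 2, 2, 2⟩, ⟨2, 0, 2, 1, 1, 1, 0⟩, ⟨2, 1, 1, 1, 1, 1, 0⟩,
  ⟨1, 1, 2, 1, 0, 0, 2⟩, ⟨1, 0, 0, 2, 0, 1, 1⟩, ⟨2, 0, 0, 1, 2, 1, 2⟩, ⟨1, 0, 0, 2, 2, 2, 1⟩⟩, ⟨⟨1, 2, 1, 0, 2,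
  2, 0⟩, ⟨2, 0, 1, 1, 2, 2, 0⟩, ⟨2, 2, 2, 1, 2, 2, 0⟩, ⟨0, 0, 0, 1, 0, 0, 0⟩, ⟨2, 2, 1, 1, 0, 2, 0⟩, ⟨1, 1, 2,
  2, 1, 2, 0⟩, ⟨0, 2, 1, 0, 2, 2, 1⟩⟩, ⟨⟨0, 1, 2, 2, 0, 0, 2⟩, ⟨0, 2, 0, 0, 0, 0, 0⟩, ⟨0, 0, 2, 0, 0, 0, 0⟩, ⟨1,
  1, 2, 1, 0, 0, 2⟩, ⟨2, 2, 1, 1, 2, 0, 1⟩, ⟨1, 1, 2, 2, 0, 2, 2⟩, ⟨1, 1, 2, 2, 0, 0, 1⟩⟩, [90, 162, 162, 0,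
  243], [⟨⟨1, 0, 0, 2, 2, 0, 2⟩, 162, 0, [⟨0, 2, 1, 0, 0, 2, 1⟩, ⟨2, 1, 2, 1, 0, 1, 2⟩]⟩, ⟨⟨0, 2, 0, 2, 2, 2,
  0⟩, 12, 0, [⟨0, 2, 2, 1, 0, 0, 1⟩]⟩, ⟨⟨1, 2, 1, 2, 2, 2, 2⟩, 4, 0, []⟩, ⟨⟨0, 0, 2, 1, 2, 1, 0⟩, 2, 0, []⟩],
  15552⟩

theorem ok57 : clsOk c57 = true := by decide +kernel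

end Cfsg.Agent.H397.QS.O7
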