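import Cfsg.Agent.H397.QS.O7.Inv

/-!
# Class certificates for the isometry group of `F₃⁷` (part D)
-/

set_option autoImplicit false
set_option maxRecDepth 100000

namespace Cfsg.Agent.H397.QS.O7

/-- class 4 -/
def c4 : Cls := ⟨[6, 4, 1, 7, 0, 2, 6, 5, 2, 0, 7, 1, 4, 6, 5, 6], ⟨⟨2, 0, 2, 1, 2, 0, 0⟩, ⟨2, 1, 0, 2, 1, 0,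
  2⟩, ⟨0, 0, 2, 1, 0, 2, 2⟩, ⟨0, 0, 1, 2, 1, 2, 2⟩, ⟨0, 0, 0, 0, 1, 0, 0⟩, ⟨1, 0, 1, 0, 0, 2, 1⟩, ⟨2, 0, 0, 1,
  1, 1, 2⟩⟩, ⟨⟨1, 0, 0, 0, 1, 0, 0⟩, ⟨1, 1, 0, 1, 1, 0, 1⟩, ⟨0, 0, 1, 0, 0, 0, 0⟩, ⟨0, 0, 0, 1, 2, 0, 0⟩, ⟨0, 0,
  0, 0, 1, 0, 0⟩, ⟨0, 0, 0, 0, 0, 1, 0⟩, ⟨0, 0, 0, 0, 2, 0, 1⟩⟩, ⟨⟨2, 0, 2, 1, 0, 0, 0⟩, ⟨0, 1, 0, 0, 0, 0, 0⟩,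
  ⟨0, 0, 2, 1, 0, 2, 2⟩, ⟨0, 0, 1, 2, 0, 2, 2⟩, ⟨0, 0, 0, 0, 1, 0, 0⟩, ⟨1, 0, 1, 0, 0, 2, 1⟩, ⟨2, 0, 0, 1, 0, 1,
  2⟩⟩, [108, 54, 288, 0, 243], [⟨⟨2, 2, 1, 2, 0, 0, 1⟩, 216, 0, [⟨1, 2, 2, 0, 0, 1, 0⟩, ⟨1, 2, 1, 1, 1, 0, 0⟩,
  ⟨0, 2, 2, 2, 0, 1, 2⟩]⟩, ⟨⟨0, 1, 0, 0, 0, 0, 1⟩, 4, 0, [⟨1, 1, 0, 0, 2, 1, 1⟩]⟩, ⟨⟨0, 0, 1, 2, 2, 2, 0⟩, 2, 0,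
  []⟩], 1728⟩

theorem ok4 : clsOk c4 = true := by decide +kernel

/-- class 8 -/
def c8 : Cls := ⟨[6, 4, 1, 7, 0, 2, 1, 5, 2, 4, 3, 2, 0, 7, 1, 4, 6, 3, 4, 2, 5, 1], ⟨⟨1, 2, 0, 1, 2, 2, 2⟩, ⟨1,
  0, 2, 0, 1, 1, 1⟩, ⟨0, 2, 1, 0, 0, 0, 0⟩, ⟨1, 1, 2, 2, 1, 1, 1⟩, ⟨1, 2, 2, 2, 1, 1, 2⟩, ⟨1, 0, 2, 0, 0, 1, 0⟩,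
  ⟨2, 2, 0, 1, 1, 1, 0⟩⟩, ⟨⟨0, 2, 2, 0, 0, 2, 0⟩, ⟨2, 1, 0, 1, 1, 2, 1⟩, ⟨2, 2, 2, 0, 2, 2, 2⟩, ⟨2, 0, 0, 2, 1,
  2, 1⟩, ⟨2, 2, 2, 0, 0, 1, 2⟩, ⟨2, 0, 1, 1, 2, 0, 2⟩, ⟨1, 1, 1, 0, 2, 0, 0⟩⟩, ⟨⟨1, 1, 1, 0, 2, 1, 2⟩, ⟨0, 0, 1,
  1, 2, 1, 2⟩, ⟨0, 1, 2, 2, 1, 0, 1⟩, ⟨0, 1, 1, 0, 2, 1, 2⟩, ⟨0, 0, 2, 1, 2, 0, 0⟩, ⟨0, 0, 1, 1, 0, 0, 0⟩, ⟨1,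
  2, 1, 2, 2, 2, 1⟩⟩, [42, 180, 270, 20, 27], [⟨⟨0, 0, 0, 1, 2, 2, 0⟩, 40, 0, [⟨2, 2, 1, 0, 0, 2, 2⟩, ⟨1, 1, 0,
  1, 2, 1, 0⟩, ⟨0, 1, 1, 1, 0, 1, 2⟩, ⟨1, 1, 1, 1, 1, 2, 2⟩, ⟨1, 2, 2, 1, 1, 0, 0⟩]⟩, ⟨⟨2, 0, 0, 1, 2, 1, 1⟩, 2,
  0, []⟩], 80⟩

theorem ok8 : clsOk c8 = true := by decide +kernel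

/-- class 12 -/
def c12 : Cls := ⟨[6, 4, 1, 7, 0, 2, 7, 0, 1, 6, 2, 3, 4, 7, 1, 2, 5, 4, 3, 2, 1, 5, 3, 6, 7, 2, 0, 4, 3, 1, 4,
  7, 2, 5, 4, 2, 0, 7, 1, 4, 6, 4, 5, 2, 7, 4, 1, 3, 4, 0, 2, 7, 6, 3, 5, 1, 2, 3, 4, 5, 2, 1, 7, 4, 3, 2, 6, 1,
  0, 7], ⟨⟨1, 0, 2, 0, 0, 0, 0⟩, ⟨0, 1, 0, 0, 0, 0, 0⟩, ⟨0, 0, 1, 0, 0, 0, 0⟩, ⟨0, 0, 1, 1, 0, 0, 0⟩, ⟨0, 0, 1,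
  0, 1, 0, 0⟩, ⟨2, 2, 0, 1, 0, 1, 2⟩, ⟨0, 0, 2, 0, 0, 0, 1⟩⟩, ⟨⟨1, 0, 1, 0, 0, 0, 0⟩, ⟨0, 1, 0, 0, 0, 0, 0⟩, ⟨0,
  0, 1, 0, 0, 0, 0⟩, ⟨0, 0, 2, 1, 0, 0, 0⟩, ⟨0, 0, 2, 0, 1, 0, 0⟩, ⟨1, 1, 0, 2, 0, 1, 1⟩, ⟨0, 0, 1, 0, 0, 0,
  1⟩⟩, ⟨⟨1, 0, 0, 0, 0, 0, 0⟩, ⟨0, 1, 0, 0, 0, 0, 0⟩, ⟨0, 0, 1, 0, 0, 0, 0⟩, ⟨0, 0, 0, 1, 0, 0, 0⟩, ⟨0, 0, 0, 0,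
  1, 0, 0⟩, ⟨0, 0, 0, 0, 0, 1, 0⟩, ⟨0, 0, 0, 0, 0, 0, 1⟩⟩, [0, 0, 0, 0, 243], [⟨⟨1, 0, 0, 0, 2, 0, 1⟩, 108, 2,
  []⟩, ⟨⟨1, 2, 2, 0, 2, 0, 1⟩, 18, 2, []⟩, ⟨⟨1, 0, 2, 0, 0, 0, 2⟩, 18, 2, []⟩, ⟨⟨1, 2, 2, 2, 0, 1, 1⟩, 24, 0,
  [⟨0, 1, 2, 0, 0, 1, 0⟩]⟩, ⟨⟨0, 2, 1, 0, 0, 0, 1⟩, 3, 0, [⟨0, 2, 0, 0, 0, 0, 1⟩]⟩], 2519424⟩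

theorem ok12 : clsOk c12 = true := by decide +kernel

/-- class 16 -/
def c16 : Cls := ⟨[6, 4, 1, 7, 0, 2, 3, 1, 2, 6, 3, 5, 2, 0, 7, 1, 4, 6, 5, 3, 6, 2, 1, 3], ⟨⟨2, 0, 2, 1, 2, 0,
  0⟩, ⟨0, 2, 0, 1, 1, 2, 1⟩, ⟨1, 0, 2, 1, 0, 2, 1⟩, ⟨1, 2, 1, 1, 1, 1, 2⟩, ⟨2, 0, 1, 2, 1, 0, 1⟩, ⟨2, 0, 0, 2,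
  0, 0, 1⟩, ⟨1, 0, 2, 1, 1, 0, 2⟩⟩, ⟨⟨2, 2, 2, 0, 1, 2, 0⟩, ⟨2, 0, 1, 1, 2, 2, 0⟩, ⟨1, 2, 0, 0, 1, 2, 2⟩, ⟨1, 0,
  1, 2, 2, 1, 2⟩, ⟨1, 1, 2, 2, 2, 1, 2⟩, ⟨1, 1, 2, 2, 1, 2, 0⟩, ⟨0, 2, 0, 2, 0, 2, 0⟩⟩, ⟨⟨0, 1, 0, 0, 1, 2, 1⟩,
  ⟨2, 2, 0, 0, 1, 0, 1⟩, ⟨1, 1, 1, 2, 1, 1, 0⟩, ⟨1, 1, 0, 0, 2, 1, 0⟩, ⟨2, 0, 2, 2, 0, 2, 2⟩, ⟨0, 0, 0, 0, 0, 2,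
  1⟩, ⟨0, 2, 2, 2, 1, 0, 2⟩⟩, [24, 120, 198, 20, 27], [⟨⟨2, 1, 2, 2, 0, 2, 2⟩, 80, 0, [⟨2, 0, 2, 1, 0, 2, 1⟩,
  ⟨0, 2, 2, 1, 0, 2, 2⟩, ⟨0, 0, 0, 2, 2, 0, 0⟩, ⟨0, 1, 1, 0, 1, 2, 0⟩, ⟨1, 2, 0, 2, 2, 1, 2⟩]⟩, ⟨⟨0, 0, 0, 2, 1,
  0, 0⟩, 2, 0, []⟩], 160⟩

theorem ok16 : clsOk c16 = true := by decide +kernel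

/-- class 20 -/
def c20 : Cls := ⟨[6, 4, 1, 7, 0, 2, 3, 2, 2, 0, 7, 1, 4, 6, 2, 3], ⟨⟨0, 2, 0, 2, 0, 2, 2⟩, ⟨1, 0, 1, 1, 1, 2,
  0⟩, ⟨1, 1, 0, 1, 2, 0, 0⟩, ⟨0, 1, 1, 1, 0, 2, 1⟩, ⟨2, 2, 0, 2, 0, 0, 1⟩, ⟨2, 1, 0, 2, 0, 0, 1⟩, ⟨1, 1, 0, 1,
  0, 1, 2⟩⟩, ⟨⟨2, 0, 1, 1, 2, 1, 2⟩, ⟨1, 2, 1, 1, 2, 1, 0⟩, ⟨2, 1, 2, 2, 1, 0, 2⟩, ⟨1, 2, 2, 2, 0, 2, 2⟩, ⟨0, 1,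
  1, 0, 2, 1, 2⟩, ⟨2, 1, 0, 2, 1, 2, 2⟩, ⟨2, 0, 2, 2, 1, 2, 2⟩⟩, ⟨⟨0, 1, 1, 2, 2, 2, 0⟩, ⟨0, 0, 0, 0, 1, 2, 0⟩,
  ⟨1, 0, 0, 1, 2, 0, 2⟩, ⟨1, 1, 1, 2, 0, 0, 1⟩, ⟨1, 2, 1, 1, 0, 1, 1⟩, ⟨0, 0, 0, 0, 1, 0, 1⟩, ⟨1, 2, 2, 1, 1, 1,
  1⟩⟩, [0, 0, 216, 0, 27], [⟨⟨2, 2, 2, 1, 2, 2, 0⟩, 144, 0, [⟨0, 1, 0, 2, 0, 1, 0⟩, ⟨0, 0, 0, 2, 1, 0, 0⟩]⟩,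
  ⟨⟨0, 0, 2, 1, 2, 2, 0⟩, 16, 0, [⟨1, 0, 1, 2, 1, 2, 2⟩, ⟨0, 2, 2, 1, 2, 2, 2⟩]⟩, ⟨⟨1, 1, 2, 2, 2, 1, 2⟩, 2, 0,
  []⟩], 4608⟩

theorem ok20 : clsOk c20 = true := by decide +kernel

/-- class 24 -/
def c24 : Cls := ⟨[6, 4, 1, 7, 0, 2, 1, 0, 7, 2, 3, 2, 5, 6, 2, 0, 7, 1, 4, 6, 6, 5, 2, 3, 2, 7, 0, 1], ⟨⟨0, 2,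
  0, 1, 2, 2, 0⟩, ⟨0, 2, 1, 1, 1, 0, 1⟩, ⟨1, 1, 0, 2, 0, 2, 1⟩, ⟨1, 2, 0, 0, 1, 2, 0⟩, ⟨2, 0, 0, 2, 1, 2, 1⟩,
  ⟨1, 0, 2, 0, 0, 1, 2⟩, ⟨0, 1, 2, 2, 1, 0, 1⟩⟩, ⟨⟨1, 0, 0, 0, 2, 2, 2⟩, ⟨1, 2, 1, 2, 2, 0, 2⟩, ⟨1, 0, 1, 1, 0,
  2, 0⟩, ⟨1, 0, 0, 2, 2, 0, 1⟩, ⟨0, 0, 0, 0, 2, 0, 0⟩, ⟨0, 0, 0, 0, 1, 1, 0⟩, ⟨0, 0, 0, 0, 2, 1, 2⟩⟩, ⟨⟨0, 1, 2,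
  0, 0, 2, 2⟩, ⟨1, 1, 0, 1, 1, 0, 1⟩, ⟨1, 2, 1, 0, 0, 2, 2⟩, ⟨0, 1, 2, 1, 1, 1, 0⟩, ⟨1, 0, 0, 1, 2, 1, 2⟩, ⟨0,
  0, 2, 2, 1, 0, 0⟩, ⟨2, 2, 0, 2, 1, 2, 0⟩⟩, [132, 0, 216, 192, 27], [⟨⟨2, 1, 2, 2, 2, 2, 2⟩, 192, 0, [⟨1, 2, 0,
  0, 2, 0, 2⟩, ⟨1, 2, 0, 2, 2, 0, 0⟩, ⟨0, 1, 2, 1, 2, 1, 1⟩]⟩, ⟨⟨1, 1, 1, 0, 2, 1, 0⟩, 8, 0, [⟨0, 2, 0, 2, 2, 0,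
  0⟩, ⟨0, 2, 2, 0, 0, 2, 1⟩]⟩], 1536⟩

theorem ok24 : clsOk c24 = true := by decide +kernel

/-- class 28 -/
def c28 : Cls := ⟨[6, 4, 1, 7, 0, 2, 3, 0, 2, 2, 0, 7, 1, 4, 6, 2, 0, 3], ⟨⟨0, 2, 0, 2, 0, 2, 2⟩, ⟨1, 0, 1, 2,
  1, 1, 2⟩, ⟨1, 1, 0, 0, 2, 1, 1⟩, ⟨1, 1, 0, 2, 0, 0, 1⟩, ⟨2, 2, 0, 1, 0, 1, 2⟩, ⟨2, 1, 0, 1, 0, 1, 2⟩, ⟨0, 1,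
  1, 0, 0, 0, 2⟩⟩, ⟨⟨2, 0, 1, 1, 2, 1, 2⟩, ⟨1, 1, 2, 2, 2, 2, 1⟩, ⟨1, 2, 2, 1, 1, 0, 0⟩, ⟨0, 2, 2, 2, 1, 0, 2⟩,
  ⟨2, 2, 1, 2, 2, 1, 0⟩, ⟨1, 2, 0, 0, 1, 0, 1⟩, ⟨2, 0, 0, 2, 0, 2, 1⟩⟩, ⟨⟨2, 1, 2, 0, 2, 2, 1⟩, ⟨1, 1, 2, 0, 2,
  0, 0⟩, ⟨1, 1, 2, 0, 0, 1, 2⟩, ⟨2, 2, 1, 0, 0, 2, 2⟩, ⟨2, 0, 2, 0, 1, 1, 2⟩, ⟨1, 2, 0, 1, 2, 2, 1⟩, ⟨0, 0, 1,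
  1, 0, 0, 0⟩⟩, [72, 0, 342, 0, 27], [⟨⟨2, 1, 2, 1, 0, 1, 1⟩, 144, 0, [⟨0, 0, 2, 0, 2, 2, 1⟩, ⟨1, 0, 1, 1, 1, 0,
  0⟩, ⟨1, 0, 0, 2, 2, 1, 0⟩, ⟨2, 0, 0, 0, 0, 2, 1⟩]⟩, ⟨⟨1, 1, 2, 2, 2, 0, 0⟩, 3, 0, [⟨0, 1, 1, 1, 2, 1, 0⟩]⟩],
  432⟩

theorem ok28 : clsOk c28 = true := by decide +kernel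

/-- class 33 -/
def c33 : Cls := ⟨[6, 4, 1, 7, 0, 2, 3, 6, 2, 3, 1, 0, 2, 0, 7, 1, 4, 6, 0, 1, 3, 2, 6, 3], ⟨⟨2, 1, 2, 1, 2, 2,
  0⟩, ⟨1, 2, 2, 2, 1, 2, 1⟩, ⟨1, 0, 1, 0, 2, 2, 0⟩, ⟨2, 2, 0, 2, 2, 1, 2⟩, ⟨1, 0, 2, 2, 0, 0, 1⟩, ⟨1, 0, 1, 2,
  2, 0, 1⟩, ⟨2, 1, 2, 2, 2, 2, 1⟩⟩, ⟨⟨1, 0, 2, 2, 0, 2, 1⟩, ⟨0, 1, 2, 2, 0, 2, 1⟩, ⟨1, 1, 0, 0, 2, 1, 1⟩, ⟨2, 0,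
  2, 2, 1, 2, 2⟩, ⟨1, 0, 0, 1, 0, 1, 2⟩, ⟨2, 0, 0, 2, 1, 2, 1⟩, ⟨2, 0, 1, 0, 1, 2, 1⟩⟩, ⟨⟨0, 0, 2, 2, 1, 1, 1⟩,
  ⟨2, 1, 2, 0, 0, 1, 2⟩, ⟨2, 1, 2, 2, 1, 0, 2⟩, ⟨2, 2, 2, 1, 2, 2, 0⟩, ⟨0, 2, 1, 0, 1, 1, 2⟩, ⟨1, 1, 1, 2, 2, 2,
  2⟩, ⟨1, 0, 2, 1, 0, 2, 1⟩⟩, [126, 108, 234, 0, 27], [⟨⟨1, 2, 2, 2, 2, 0, 1⟩, 108, 0, [⟨2, 1, 2, 0, 2, 2, 0⟩,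
  ⟨2, 1, 2, 0, 1, 1, 2⟩, ⟨1, 0, 0, 0, 0, 2, 2⟩, ⟨2, 0, 2, 0, 1, 0, 1⟩, ⟨0, 0, 1, 0, 1, 1, 2⟩]⟩, ⟨⟨0, 1, 0, 0, 1,
  1, 0⟩, 2, 0, []⟩], 216⟩

theorem ok33 : clsOk c33 = true := by decide +kernel

/-- class 37 -/
def c37 : Cls := ⟨[6, 4, 1, 7, 0, 2, 3, 2, 5, 1, 2, 2, 0, 7, 1, 4, 6, 2, 1, 5, 2, 3], ⟨⟨1, 2, 2, 0, 2, 1, 2⟩,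
  ⟨0, 2, 1, 1, 1, 0, 1⟩, ⟨2, 1, 2, 1, 0, 1, 0⟩, ⟨0, 0, 2, 1, 1, 0, 0⟩, ⟨2, 0, 0, 1, 1, 2, 2⟩, ⟨0, 2, 0, 2, 0, 2,
  0⟩, ⟨0, 0, 1, 0, 1, 0, 1⟩⟩, ⟨⟨0, 1, 1, 2, 2, 0, 1⟩, ⟨1, 2, 1, 2, 2, 0, 2⟩, ⟨0, 1, 2, 0, 0, 0, 2⟩, ⟨0, 2, 0, 1,
  2, 1, 2⟩, ⟨1, 2, 2, 0, 2, 2, 2⟩, ⟨0, 2, 0, 2, 1, 1, 2⟩, ⟨1, 1, 0, 2, 2, 0, 0⟩⟩, ⟨⟨0, 0, 2, 0, 0, 2, 0⟩, ⟨1, 1,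
  0, 1, 1, 0, 1⟩, ⟨1, 1, 1, 0, 0, 2, 0⟩, ⟨1, 0, 0, 1, 1, 0, 2⟩, ⟨0, 0, 1, 1, 2, 2, 1⟩, ⟨2, 0, 2, 1, 1, 1, 0⟩,
  ⟨2, 1, 1, 2, 1, 2, 1⟩⟩, [48, 192, 252, 8, 3], [⟨⟨1, 0, 2, 2, 0, 0, 1⟩, 64, 0, [⟨2, 1, 2, 1, 2, 0, 0⟩, ⟨1, 2,
  2, 0, 2, 2, 0⟩, ⟨0, 0, 2, 1, 0, 2, 2⟩, ⟨1, 0, 2, 1, 0, 0, 2⟩, ⟨2, 1, 1, 0, 2, 0, 1⟩, ⟨2, 1, 2, 1, 2, 1, 1⟩]⟩],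
  64⟩

theorem ok37 : clsOk c37 = true := by decide +kernel

/-- class 44 -/
def c44 : Cls := ⟨[6, 4, 1, 7, 0, 2, 7, 6, 3, 0, 1, 2, 3, 7, 6, 2, 0, 7, 1, 4, 6, 6, 7, 3, 2, 1, 0, 3, 6, 7],
  ⟨⟨2, 0, 0, 0, 1, 2, 2⟩, ⟨0, 2, 2, 0, 1, 2, 2⟩, ⟨2, 1, 1, 2, 1, 0, 2⟩, ⟨2, 1, 1, 2, 0, 1, 2⟩, ⟨0, 0, 0, 0, 0,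
  2, 2⟩, ⟨0, 0, 2, 1, 2, 1, 1⟩, ⟨0, 0, 1, 2, 2, 1, 1⟩⟩, ⟨⟨1, 0, 0, 0, 1, 1, 1⟩, ⟨1, 0, 0, 1, 0, 1, 2⟩, ⟨1, 2, 1,
  1, 2, 0, 1⟩, ⟨1, 2, 0, 2, 1, 2, 0⟩, ⟨0, 0, 0, 0, 2, 1, 1⟩, ⟨0, 0, 0, 0, 0, 1, 0⟩, ⟨0, 0, 0, 0, 2, 2, 0⟩⟩, ⟨⟨2,
  0, 0, 0, 2, 0, 0⟩, ⟨1, 1, 2, 1, 1, 0, 1⟩, ⟨0, 0, 1, 0, 0, 0, 0⟩, ⟨0, 0, 1, 0, 1, 0, 2⟩, ⟨0, 0, 0, 0, 1, 0, 0⟩,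
  ⟨0, 0, 2, 1, 2, 1, 1⟩, ⟨0, 0, 1, 2, 1, 0, 0⟩⟩, [324, 0, 288, 0, 243], [⟨⟨1, 2, 2, 2, 0, 0, 2⟩, 288, 0, [⟨1, 2,
  1, 0, 0, 1, 1⟩, ⟨1, 2, 2, 2, 2, 2, 1⟩]⟩, ⟨⟨2, 2, 1, 1, 0, 1, 2⟩, 18, 0, [⟨2, 0, 1, 0, 2, 0, 0⟩, ⟨0, 1, 1, 2,
  0, 2, 1⟩]⟩, ⟨⟨2, 0, 2, 1, 0, 2, 2⟩, 2, 0, []⟩], 10368⟩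

theorem ok44 : clsOk c44 = true := by decide +kernel

/-- class 48 -/
def c48 : Cls := ⟨[6, 4, 1, 7, 0, 2, 7, 6, 1, 3, 5, 2, 3, 6, 2, 0, 7, 1, 4, 6, 6, 3, 2, 5, 3, 1, 6, 7], ⟨⟨1, 0,
  0, 2, 2, 1, 0⟩, ⟨1, 2, 0, 0, 1, 0, 0⟩, ⟨2, 2, 1, 0, 0, 2, 0⟩, ⟨1, 2, 0, 2, 1, 0, 0⟩, ⟨1, 0, 2, 1, 1, 2, 1⟩,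
  ⟨0, 0, 0, 1, 0, 1, 0⟩, ⟨2, 0, 1, 1, 1, 0, 2⟩⟩, ⟨⟨2, 1, 1, 0, 0, 0, 2⟩, ⟨1, 1, 2, 0, 2, 0, 1⟩, ⟨0, 0, 1, 0, 0,
  0, 0⟩, ⟨0, 2, 2, 1, 1, 0, 1⟩, ⟨0, 0, 2, 2, 2, 0, 0⟩, ⟨1, 2, 0, 0, 1, 1, 0⟩, ⟨1, 1, 2, 0, 2, 0, 2⟩⟩, ⟨⟨0, 1, 0,
  0, 1, 1, 1⟩, ⟨1, 0, 1, 2, 0, 0, 1⟩, ⟨2, 2, 1, 0, 0, 2, 0⟩, ⟨1, 1, 2, 1, 2, 0, 0⟩, ⟨2, 2, 0, 0, 1, 2, 2⟩, ⟨1,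
  1, 2, 1, 2, 1, 1⟩, ⟨0, 0, 2, 0, 1, 0, 0⟩⟩, [144, 162, 216, 0, 27], [⟨⟨0, 1, 1, 2, 0, 1, 2⟩, 108, 0, [⟨0, 2, 0,
  1, 2, 0, 1⟩, ⟨1, 0, 2, 2, 0, 1, 1⟩, ⟨0, 2, 0, 2, 2, 0, 2⟩, ⟨1, 2, 0, 2, 2, 1, 0⟩, ⟨1, 2, 1, 0, 2, 0, 2⟩]⟩,
  ⟨⟨0, 0, 1, 2, 1, 2, 1⟩, 2, 0, []⟩], 216⟩

theorem ok48 : clsOk c48 = true := by decide +kernel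

/-- class 54 -/
def c54 : Cls := ⟨[6, 4, 1, 7, 0, 2, 3, 0, 1, 2, 3, 2, 0, 7, 1, 4, 6, 3, 2, 1, 0, 3], ⟨⟨0, 2, 0, 2, 0, 2, 2⟩,
  ⟨1, 0, 1, 0, 1, 2, 1⟩, ⟨1, 2, 2, 1, 2, 0, 1⟩, ⟨2, 2, 0, 2, 2, 1, 2⟩, ⟨2, 2, 0, 2, 0, 2, 1⟩, ⟨1, 1, 0, 1, 2, 2,
  0⟩, ⟨2, 0, 1, 2, 1, 1, 2⟩⟩, ⟨⟨0, 0, 1, 1, 0, 0, 1⟩, ⟨1, 2, 0, 0, 1, 0, 0⟩, ⟨0, 0, 1, 0, 0, 0, 0⟩, ⟨0, 1, 1, 2,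
  1, 0, 1⟩, ⟨1, 1, 0, 0, 2, 0, 0⟩, ⟨0, 1, 1, 1, 1, 1, 1⟩, ⟨0, 1, 1, 1, 1, 0, 2⟩⟩, ⟨⟨2, 1, 0, 2, 2, 2, 2⟩, ⟨1, 1,
  2, 1, 2, 2, 2⟩, ⟨1, 2, 2, 1, 2, 0, 1⟩, ⟨1, 2, 1, 0, 2, 1, 0⟩, ⟨2, 0, 1, 0, 1, 2, 2⟩, ⟨0, 1, 1, 2, 2, 2, 1⟩,
  ⟨1, 0, 2, 0, 1, 1, 0⟩⟩, [54, 0, 180, 0, 243], [⟨⟨1, 2, 2, 1, 1, 2, 0⟩, 216, 0, [⟨1, 0, 0, 1, 0, 1, 0⟩, ⟨0, 2,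
  0, 2, 1, 2, 1⟩, ⟨0, 2, 0, 1, 2, 1, 0⟩]⟩, ⟨⟨2, 1, 1, 2, 1, 0, 1⟩, 4, 0, [⟨1, 0, 1, 1, 2, 2, 1⟩]⟩, ⟨⟨0, 2, 1, 0,
  2, 0, 1⟩, 2, 0, []⟩], 1728⟩

theorem ok54 : clsOk c54 = true := by decide +kernel

end Cfsg.Agent.H397.QS.O7
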