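import Mathlib

/-!
# Counting vectors of `F₃⁷` with prescribed values of quadratic and linear functionals

The monomials of degree at most two of a vector are packed in one number, functionals are packed in another one, the
value is read off the product.
-/

set_option autoImplicit false

namespace Cfsg.Agent.H397.QS.O7

/-- strict evaluation -/
def force {α : Type} (x : ℕ) (f : ℕ → α) : α := Nat.rec (f 0) (fun n _ => f (Nat.succ n)) x

theorem force_eq {α : Type} (x : ℕ) (f : ℕ → α) : force x f = f x := by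
  cases x <;> rfl

/-- little endian -/
def pk : List ℕ → ℕ
  | [] => 0
  | a :: l => a + 1024 * pk l

/-- big endian -/
def pkr : List ℕ → ℕ
  | [] => 0
  | b :: m => b * 1024 ^ m.length + pkr m

/-- the scalar product -/
def dotN : List ℕ → List ℕ → ℕ
  | a :: l, b :: m => a * b + dotN l m
  | _, _ => 0

theorem pkr_le (m : List ℕ) (hm : ∀ b ∈ m, b ≤ 2) : 1023 * pkr m + 2 ≤ 2 * 1024 ^ m.length := by
  induction m with
  | nil => simp [pkr]
  | cons b m ih =>
    have h1 := ih fun b hb => hm b (List.mem_cons_of_mem _ hb)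
    have h2 : b ≤ 2 := hm b List.mem_cons_self
    have h3 : b * 1024 ^ m.length ≤ 2 * 1024 ^ m.length := Nat.mul_le_mul_right _ h2
    rw [pkr, List.length_cons, pow_succ]
    omega

theorem conv (k : ℕ) : ∀ l m : List ℕ, l.length = k + 1 → m.length = k + 1 → (∀ a ∈ l, a ≤ 4) → (∀ b ∈ m, b ≤ 2) →
    ∃ L H, pk l * pkr m = L + 1024 ^ k * dotN l m + 1024 ^ (k + 1) * H ∧ 1023 * L ≤ 8 * k * 1024 ^ k := by
  induction k with
  | zero =>
    intro l m hl hm _ _
    obtain ⟨a, rfl⟩ := List.length_eq_one_iff.1 hl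
    obtain ⟨b, rfl⟩ := List.length_eq_one_iff.1 hm
    exact ⟨0, 0, by simp [pk, pkr, dotN], by simp⟩
  | succ k ih =>
    intro l m hl hm hl4 hm2
    obtain ⟨a, l, rfl⟩ := List.exists_cons_of_length_eq_add_one hl
    obtain ⟨b, m, rfl⟩ := List.exists_cons_of_length_eq_add_one hm
    rw [List.length_cons, Nat.add_right_cancel_iff] at hl hm
    obtain ⟨L, H, h1, h2⟩ := ih l m hl hm (fun a ha => hl4 a (List.mem_cons_of_mem _ ha))
      (fun b hb => hm2 b (List.mem_cons_of_mem _ hb))
    have h3 := pkr_le m fun b hb => hm2 b (List.mem_cons_of_mem _ hb)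
    have h4 : a ≤ 4 := hl4 a List.mem_cons_self
    rw [hm] at h3
    refine ⟨a * pkr m + 1024 * L, H + b * pk l, ?_, ?_⟩
    · rw [pk, pkr, dotN, hm]
      have e : (a + 1024 * pk l) * (b * 1024 ^ (k + 1) + pkr m) =
          a * b * 1024 ^ (k + 1) + a * pkr m + 1024 * (pk l * pkr m) + 1024 ^ (k + 1 + 1) * (b * pk l) := by ring
      rw [e, h1]
      ring
    · have h5 : a * pkr m ≤ 4 * pkr m := Nat.mul_le_mul_right _ h4
      have h6 : 8 * (k + 1) * 1024 ^ (k + 1) = 1024 * (8 * k * 1024 ^ k) + 8 * 1024 ^ (k + 1) := by ring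
      rw [h6]
      omega

/-- the value of a functional -/
theorem ext_eq {l m : List ℕ} (hl : l.length = 35) (hm : m.length = 35) (hl4 : ∀ a ∈ l, a ≤ 4)
    (hm2 : ∀ b ∈ m, b ≤ 2) (hd : dotN l m < 1024) : pkr m * pk l / 1024 ^ 34 % 1024 = dotN l m := by
  obtain ⟨L, H, h1, h2⟩ := conv 34 l m hl hm hl4 hm2
  have h3 : L < 1024 ^ 34 := by
    have : 8 * 34 * 1024 ^ 34 < 1023 * 1024 ^ 34 := Nat.mul_lt_mul_of_pos_right (by norm_num) (by positivity)
    omega
  have e : pkr m * pk l = L + 1024 ^ 34 * (dotN l m + 1024 * H) := by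
    rw [mul_comm, h1]; ring
  rw [e, Nat.add_mul_div_left _ _ (by positivity), Nat.div_eq_of_lt h3, zero_add, Nat.add_mul_mod_self_left,
    Nat.mod_eq_of_lt hd]

/-- the tests -/
def tst (ts : List (ℕ × ℕ)) (W : ℕ) : Bool :=
  List.rec (motive := fun _ => Bool) true (fun q _ ih => cond (Nat.beq (Nat.mod (Nat.mod (Nat.div (Nat.mul q.1 W)
    (nat_lit 2239744742177804210557442280568444278121645497234649534899989100963791871180160945380877493271607115776))
    (nat_lit 1024)) (nat_lit 3)) q.2) ih false) ts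

/-- counting -/
def cntR (t : ℕ → Bool) (ls : List (ℕ × ℕ)) : ℕ → ℕ → ℕ :=
  List.rec (motive := fun _ => ℕ → ℕ → ℕ) (fun _ W => cond (t W) (nat_lit 1) (nat_lit 0))
    (fun q _ ih P W => Nat.add (ih P W) (Nat.add
      (force (Nat.add P q.1) fun P1 => force (Nat.add W (Nat.mul q.2 P1)) fun W1 => ih P1 W1)
      (force (Nat.add P (Nat.mul (nat_lit 2) q.1)) fun P2 =>
        force (Nat.add W (Nat.mul (nat_lit 2) (Nat.mul q.2 P2))) fun W2 => ih P2 W2))) ls

/-- the levels -/
def lev : List (ℕ × ℕ) :=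
  [(nat_lit 1024, nat_lit 1), (nat_lit 1048576, nat_lit 1048576), (nat_lit 1073741824, nat_lit 1125899906842624), (nat_lit 1099511627776, nat_lit 1237940039285380274899124224),
   (nat_lit 1125899906842624, nat_lit 1393796574908163946345982392040522594123776), (nat_lit 1152921504606846976, nat_lit 1606938044258990275541962092341162602522202993782792835301376), (nat_lit 1180591620717411303424, nat_lit 1897137590064188545819787018382342682267975428761855001222473056385648716020711424)]

/-- the number of vectors passing the tests -/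
def cnt (ts : List (ℕ × ℕ)) : ℕ := cntR (tst ts) lev (nat_lit 1) (nat_lit 0)

end Cfsg.Agent.H397.QS.O7
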