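import Cfsg.Agent.H397.QS.O7.Run
import Cfsg.Agent.H235.Ore.ClassList

/-!
# Certificates of classes
-/

set_option autoImplicit false

namespace Cfsg.Agent.H397.QS.O7

open Cfsg Matrix Cfsg.Agent.Fischer.O73 Cfsg.Agent.Fischer.Derived

/-- data of a class -/
structure Cls where
  w : List (Fin 8)
  m1 : M7
  m2 : M7
  m3 : M7
  iv : List ℕ
  ls : List Lvl
  d : ℕ

/-- the invariants -/
def inv5 (m1 m2 m3 : M7) : List ℕ :=
  [cntF [(cq id7, 1), (cq m1, 2), (cq m2, 1)], cntF [(cq m1, 0), (cq m2, 0), (cq m3, 2)],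
    cntF [(cq id7, 1), (cq m1, 0)], cntF [(cq id7, 1), (cq m1, 0), (cq m2, 0), (cq m3, 0)],
    cntF ((crs m2 2).map fun l => (l, 0))]

/-- equality of lists -/
def eqLst (l l' : List ℕ) : Bool :=
  List.rec (motive := fun _ => List ℕ → Bool) (fun l' => List.rec (motive := fun _ => Bool) true (fun _ _ _ => false) l')
    (fun a _ ih l' => List.rec (motive := fun _ => Bool) false (fun b t _ => and (Nat.beq a b) (ih t)) l') l l'

theorem of_eqLst : ∀ {l l' : List ℕ}, eqLst l l' = true → l = l'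
  | [], [], _ => rfl
  | [], _ :: _, h => absurd h Bool.false_ne_true
  | _ :: _, [], h => absurd h Bool.false_ne_true
  | a :: l, b :: l', h => by
    have h1 : and (Nat.beq a b) (eqLst l l') = true := h
    rw [Bool.and_eq_true] at h1
    rw [Nat.eq_of_beq_eq_true h1.1, of_eqLst h1.2]

/-- the check of a class -/
def clsOk (c : Cls) : Bool := and (matOk c.w c.m1) (and (eqM (mmul c.m1 c.m1) c.m2) (and (eqM (mmul c.m1 c.m2) c.m3)
  (and (eqLst (inv5 c.m1 c.m2 c.m3) c.iv) (and (Nat.beq (bd c.ls) c.d) (run [id7, c.m1, c.m2, c.m3] c.m1 c.ls [])))))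

/-- the element of a class -/
noncomputable def Cls.x (c : Cls) : G := ev gen c.w

open Classical in
/-- the invariants of three maps -/
noncomputable def IVf (f1 f2 f3 : (Ix → ZMod 3) → (Ix → ZMod 3)) : List ℕ :=
  [(Finset.univ.filter fun y : Ix → ZMod 3 => B y y = 1 ∧ B y (f1 y) = 2 ∧ B y (f2 y) = 1).card,
   (Finset.univ.filter fun y : Ix → ZMod 3 => B y (f1 y) = 0 ∧ B y (f2 y) = 0 ∧ B y (f3 y) = 2).card,
   (Finset.univ.filter fun y : Ix → ZMod 3 => B y y = 1 ∧ B y (f1 y) = 0).card,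
   (Finset.univ.filter fun y : Ix → ZMod 3 => B y y = 1 ∧ B y (f1 y) = 0 ∧ B y (f2 y) = 0 ∧ B y (f3 y) = 0).card,
   (Finset.univ.filter fun y : Ix → ZMod 3 => f2 y = y).card]

/-- the invariants of an isometry -/
noncomputable def IV (x : G) : List ℕ :=
  IVf (fun y => mat x *ᵥ y) (fun y => mat (x * x) *ᵥ y) (fun y => mat (x * (x * x)) *ᵥ y)

theorem wf_of {l : List (List ℕ × ℕ)} (h : ∀ q ∈ l, (∃ m, q.1 = cq m) ∧ q.2 < 3) : WF l := by
  intro q hq
  obtain ⟨⟨m, hm⟩, h2⟩ := h q hq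
  rw [hm]
  exact ⟨(cq_ok m).1, (cq_ok m).2, h2⟩

theorem card_congr' {P P' : (Ix → ZMod 3) → Prop} [DecidablePred P] [DecidablePred P'] (h : ∀ y, P y ↔ P' y) :
    (Finset.univ.filter P).card = (Finset.univ.filter P').card := by
  congr 1
  ext y
  rw [Finset.mem_filter, Finset.mem_filter, h]

theorem inv5_eq {x : G} {m1 m2 m3 : M7} (h1 : IsMat m1 x) (h2 : IsMat m2 (x * x)) (h3 : IsMat m3 (x * (x * x))) :
    inv5 m1 m2 m3 = IV x := by
  classical
  have e0 : ∀ y, ((dotN (ml y) (cq id7) : ℕ) : ZMod 3) = B y y := by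
    intro y
    rw [dot_cq, id7_app]
  have e1 : ∀ y, ((dotN (ml y) (cq m1) : ℕ) : ZMod 3) = B y (mat x *ᵥ y) := by
    intro y
    rw [dot_cq, h1]
  have e2 : ∀ y, ((dotN (ml y) (cq m2) : ℕ) : ZMod 3) = B y (mat (x * x) *ᵥ y) := by
    intro y
    rw [dot_cq, h2]
  have e3 : ∀ y, ((dotN (ml y) (cq m3) : ℕ) : ZMod 3) = B y (mat (x * (x * x)) *ᵥ y) := by
    intro y
    rw [dot_cq, h3]
  have c0 : ((0 : ℕ) : ZMod 3) = 0 := Nat.cast_zero
  have c1 : ((1 : ℕ) : ZMod 3) = 1 := Nat.cast_one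
  have c2 : ((2 : ℕ) : ZMod 3) = 2 := by norm_num
  unfold inv5 IV IVf
  refine congrArg₂ _ ?_ (congrArg₂ _ ?_ (congrArg₂ _ ?_ (congrArg₂ _ ?_ (congrArg₂ _ ?_ rfl))))
  · rw [cntF_eq (wf_of (by simp))]
    refine card_congr' fun y => ?_
    simp only [Sat, List.forall_mem_cons, List.not_mem_nil, false_imp_iff, implies_true, and_true, e0, e1, e2, c1, c2]
  · rw [cntF_eq (wf_of (by simp))]
    refine card_congr' fun y => ?_
    simp only [Sat, List.forall_mem_cons, List.not_mem_nil, false_imp_iff, implies_true, and_true, e1, e2, e3, c0, c2]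
  · rw [cntF_eq (wf_of (by simp))]
    refine card_congr' fun y => ?_
    simp only [Sat, List.forall_mem_cons, List.not_mem_nil, false_imp_iff, implies_true, and_true, e0, e1, c0, c1]
  · rw [cntF_eq (wf_of (by simp))]
    refine card_congr' fun y => ?_
    simp only [Sat, List.forall_mem_cons, List.not_mem_nil, false_imp_iff, implies_true, and_true, e0, e1, e2, e3, c0,
      c1]
  · have hw : WF ((crs m2 2).map fun l => (l, 0)) := by
      intro q hq
      rw [List.mem_map] at hq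
      obtain ⟨l, hl, rfl⟩ := hq
      exact ⟨(crs_ok m2 2 l hl).1, (crs_ok m2 2 l hl).2, by norm_num⟩
    rw [cntF_eq hw]
    refine card_congr' fun y => ?_
    have h4 : Sat ((crs m2 2).map fun l => (l, 0)) y ↔ ∀ l ∈ crs m2 2, ((dotN (ml y) l : ℕ) : ZMod 3) = 0 := by
      constructor
      · intro h l hl
        have := h _ (List.mem_map_of_mem hl)
        rw [this]; simp
      · intro h q hq
        rw [List.mem_map] at hq
        obtain ⟨l, hl, rfl⟩ := hq
        rw [h l hl]; simp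
    rw [h4, dot_crs, ← h2, c2]
    have h5 : (2 : ZMod 3) = -1 := by decide
    rw [h5, neg_one_smul, ← sub_eq_add_neg, sub_eq_zero]

theorem card_act {T T' : (Ix → ZMod 3) → (Ix → ZMod 3)} (hT : ∀ y, T' (T y) = y) (hT' : ∀ y, T (T' y) = y)
    {P P' : (Ix → ZMod 3) → Prop} [DecidablePred P] [DecidablePred P'] (h : ∀ y, P y ↔ P' (T y)) :
    (Finset.univ.filter P).card = (Finset.univ.filter P').card := by
  refine Finset.card_nbij' T T' ?_ ?_ ?_ ?_
  · intro y hy
    have hy' := (Finset.mem_filter.1 hy).2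
    exact Finset.mem_filter.2 ⟨Finset.mem_univ _, (h y).1 hy'⟩
  · intro y hy
    have hy' := (Finset.mem_filter.1 hy).2
    refine Finset.mem_filter.2 ⟨Finset.mem_univ _, (h _).2 ?_⟩
    rw [hT']
    exact hy'
  · intro y _
    exact hT y
  · intro y _
    exact hT' y

theorem IVf_conj {T T' f1 f2 f3 g1 g2 g3 : (Ix → ZMod 3) → (Ix → ZMod 3)} (hT : ∀ y, T' (T y) = y)
    (hT' : ∀ y, T (T' y) = y) (hB : ∀ y z, B (T y) (T z) = B y z) (h1 : ∀ y, g1 (T y) = T (f1 y))
    (h2 : ∀ y, g2 (T y) = T (f2 y)) (h3 : ∀ y, g3 (T y) = T (f3 y)) : IVf f1 f2 f3 = IVf g1 g2 g3 := by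
  have kinj : ∀ y z : Ix → ZMod 3, T y = T z ↔ y = z := by
    intro y z
    constructor
    · intro h
      rw [← hT y, h, hT]
    · rintro rfl; rfl
  unfold IVf
  refine congrArg₂ _ ?_ (congrArg₂ _ ?_ (congrArg₂ _ ?_ (congrArg₂ _ ?_ (congrArg₂ _ ?_ rfl))))
  · refine card_act hT hT' fun y => ?_
    rw [h1, h2, hB, hB, hB]
  · refine card_act hT hT' fun y => ?_
    rw [h1, h2, h3, hB, hB, hB]
  · refine card_act hT hT' fun y => ?_
    rw [h1, hB, hB]
  · refine card_act hT hT' fun y => ?_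
    rw [h1, h2, h3, hB, hB, hB, hB]
  · refine card_act hT hT' fun y => ?_
    rw [h2, kinj]

theorem IV_conj (g x : G) : IV (g * x * g⁻¹) = IV x := by
  symm
  refine IVf_conj (T := fun y => mat g *ᵥ y) (T' := fun y => mat g⁻¹ *ᵥ y) (mat_inv_act g) (mat_act_inv g)
    (B_mat g) (fun y => ?_) (fun y => ?_) (fun y => ?_)
  · show mat (g * x * g⁻¹) *ᵥ (mat g *ᵥ y) = mat g *ᵥ (mat x *ᵥ y)
    rw [← mat_act, ← mat_act, inv_mul_cancel_right]
  · show mat (g * x * g⁻¹ * (g * x * g⁻¹)) *ᵥ (mat g *ᵥ y) = mat g *ᵥ (mat (x * x) *ᵥ y)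
    have e : g * x * g⁻¹ * (g * x * g⁻¹) * g = g * (x * x) := by group
    rw [← mat_act, ← mat_act, e]
  · show mat (g * x * g⁻¹ * (g * x * g⁻¹ * (g * x * g⁻¹))) *ᵥ (mat g *ᵥ y) = mat g *ᵥ (mat (x * (x * x)) *ᵥ y)
    have e : g * x * g⁻¹ * (g * x * g⁻¹ * (g * x * g⁻¹)) * g = g * (x * (x * x)) := by group
    rw [← mat_act, ← mat_act, e]

/-- what the check gives -/
theorem of_clsOk {c : Cls} (h : clsOk c = true) :
    Nat.card ↥(Subgroup.centralizer ({c.x} : Set G)) ≤ c.d ∧ IV c.x = c.iv ∧ IsMat c.m1 c.x := by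
  unfold clsOk at h
  simp only [Bool.and_eq_true] at h
  obtain ⟨hw, h2, h3, hi, hb, hr⟩ := h
  have h1 : IsMat c.m1 c.x := isMat_of_matOk hw
  have h2' : IsMat c.m2 (c.x * c.x) := by
    rw [← of_eqM h2]
    exact h1.mul h1
  have h3' : IsMat c.m3 (c.x * (c.x * c.x)) := by
    rw [← of_eqM h3]
    exact h1.mul h2'
  refine ⟨?_, ?_, h1⟩
  · rw [← Nat.eq_of_beq_eq_true hb]
    refine le_of_run h1 ?_ c.ls [] _ (fun y hy => Subgroup.mem_centralizer_singleton_iff.1 hy)
      (fun _ _ f hf => absurd hf List.not_mem_nil) hr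
    intro m hm
    simp only [List.mem_cons, List.not_mem_nil, or_false] at hm
    rcases hm with rfl | rfl | rfl | rfl
    · exact ⟨1, isMat_one, fun y _ => by rw [mul_one, one_mul]⟩
    · exact ⟨_, h1, fun y hy => hy⟩
    · exact ⟨_, h2', fun y hy => ((show Commute y c.x from hy).mul_right hy).eq⟩
    · exact ⟨_, h3', fun y hy => ((show Commute y c.x from hy).mul_right ((show Commute y c.x from hy).mul_right hy)).eq⟩
  · rw [← inv5_eq h1 h2' h3', of_eqLst hi]

end Cfsg.Agent.H397.QS.O7
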