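import Cfsg.Agent.H397.QS.O7.Mat

/-!
# Bounds for centralizers in the isometry group of `F₃⁷`
-/

set_option autoImplicit false

namespace Cfsg.Agent.H397.QS.O7

open Cfsg Matrix Cfsg.Agent.Fischer.O73 Cfsg.Agent.Fischer.Derived

/-- the isometry group -/
abbrev G : Type := isometryGroup (ZMod 3) Q

instance : Finite G := Subtype.finite

/-! ### The action -/

theorem mat_act (g h : G) (y : Ix → ZMod 3) : mat (g * h) *ᵥ y = mat g *ᵥ (mat h *ᵥ y) := by
  rw [mat_mul, mulVec_mulVec]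

theorem mat_inv_act (g : G) (y : Ix → ZMod 3) : mat g⁻¹ *ᵥ (mat g *ᵥ y) = y := by
  rw [← mat_act, inv_mul_cancel, mat_one, one_mulVec]

theorem mat_act_inv (g : G) (y : Ix → ZMod 3) : mat g *ᵥ (mat g⁻¹ *ᵥ y) = y := by
  rw [← mat_act, mul_inv_cancel, mat_one, one_mulVec]

theorem ext_act {g h : G} (e : ∀ y, mat g *ᵥ y = mat h *ᵥ y) : g = h :=
  mat_injective (Matrix.ext_of_mulVec_single fun _ => e _)

/-- the action on vectors -/
def actG : MulAction G (Ix → ZMod 3) where
  smul g y := mat g *ᵥ y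
  one_smul y := by show mat 1 *ᵥ y = y; rw [mat_one, one_mulVec]
  mul_smul g h y := mat_act g h y

/-- the stabilizer of a vector in a subgroup -/
def stG (C : Subgroup G) (p : Ix → ZMod 3) : Subgroup G where
  carrier := {c | c ∈ C ∧ mat c *ᵥ p = p}
  one_mem' := ⟨one_mem _, by rw [mat_one, one_mulVec]⟩
  mul_mem' := by
    rintro a b ⟨ha, ha'⟩ ⟨hb, hb'⟩
    exact ⟨mul_mem ha hb, by rw [mat_act, hb', ha']⟩
  inv_mem' := by
    rintro a ⟨ha, ha'⟩
    refine ⟨inv_mem ha, ?_⟩
    nth_rewrite 1 [← ha']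
    exact mat_inv_act a p

theorem mem_stG {C : Subgroup G} {p : Ix → ZMod 3} {c : G} : c ∈ stG C p ↔ c ∈ C ∧ mat c *ᵥ p = p := Iff.rfl

theorem orb (C : Subgroup G) (p : Ix → ZMod 3) (S : Finset (Ix → ZMod 3)) (hS : ∀ c ∈ C, mat c *ᵥ p ∈ S) :
    Nat.card C ≤ S.card * Nat.card (stG C p) := by
  let _ := actG
  have h1 := Nat.card_congr (MulAction.orbitProdStabilizerEquivGroup C p)
  rw [Nat.card_prod] at h1
  have h2 : Nat.card (MulAction.orbit C p) ≤ S.card := by
    rw [← Set.ncard_coe_finset S, Nat.card_coe_set_eq]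
    refine Set.ncard_le_ncard ?_ (Finset.finite_toSet S)
    rintro _ ⟨c, rfl⟩
    exact hS c c.2
  have h3 : Nat.card (MulAction.stabilizer C p) = Nat.card (stG C p) := by
    have hle : stG C p ≤ C := fun c hc => hc.1
    have h4 : MulAction.stabilizer C p = (stG C p).subgroupOf C := by
      ext c
      rw [MulAction.mem_stabilizer_iff, Subgroup.mem_subgroupOf]
      exact ⟨fun h => ⟨c.2, h⟩, fun h => h.2⟩
    rw [h4]
    exact Nat.card_congr (Subgroup.subgroupOfEquivOfLe hle).toEquiv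
  rw [← h1, h3]
  exact Nat.mul_le_mul_right _ h2

/-! ### Lists of tests -/

/-- the packed tests -/
def tsOf (l : List (List ℕ × ℕ)) : List (ℕ × ℕ) := l.map fun q => (pkr q.1, q.2)

/-- strict evaluation of the tests -/
def fTs (l : List (ℕ × ℕ)) : (List (ℕ × ℕ) → ℕ) → ℕ :=
  List.rec (motive := fun _ => (List (ℕ × ℕ) → ℕ) → ℕ) (fun k => k [])
    (fun q _ ih k => force q.1 fun R => force q.2 fun v => ih fun l' => k ((R, v) :: l')) l

theorem fTs_eq (l : List (ℕ × ℕ)) (k : List (ℕ × ℕ) → ℕ) : fTs l k = k l := by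
  induction l generalizing k with
  | nil => rfl
  | cons q l ih =>
    have h : fTs (q :: l) k = force q.1 fun R => force q.2 fun v => fTs l fun l' => k ((R, v) :: l') := rfl
    rw [h, force_eq, force_eq, ih]

/-- the number of vectors passing the tests -/
def cntF (l : List (List ℕ × ℕ)) : ℕ := fTs (tsOf l) cnt

/-- a well-formed list of tests -/
def WF (l : List (List ℕ × ℕ)) : Prop := ∀ q ∈ l, q.1.length = 35 ∧ (∀ b ∈ q.1, b ≤ 2) ∧ q.2 < 3

/-- the vector passes the tests -/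
def Sat (l : List (List ℕ × ℕ)) (y : Ix → ZMod 3) : Prop :=
  ∀ q ∈ l, ((dotN (ml y) q.1 : ℕ) : ZMod 3) = (q.2 : ZMod 3)

theorem tst_iff {l : List (List ℕ × ℕ)} (hl : WF l) (y : Ix → ZMod 3) :
    tst (tsOf l) (pk (ml y)) = true ↔ Sat l y := by
  induction l with
  | nil => exact ⟨fun _ q hq => absurd hq List.not_mem_nil, fun _ => rfl⟩
  | cons q l ih =>
    obtain ⟨h1, h2, h3⟩ := hl q List.mem_cons_self
    have e : tsOf (q :: l) = (pkr q.1, q.2) :: tsOf l := rfl
    rw [e, tst_cons rfl h1 h2, ih fun r hr => hl r (List.mem_cons_of_mem _ hr)]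
    have h4 : dotN (ml y) q.1 % 3 = q.2 ↔ ((dotN (ml y) q.1 : ℕ) : ZMod 3) = (q.2 : ZMod 3) := by
      rw [ZMod.natCast_eq_natCast_iff, Nat.ModEq, Nat.mod_eq_of_lt h3]
    rw [h4]
    exact ⟨fun h r hr => by
      rcases List.mem_cons.1 hr with rfl | hr
      · exact h.1
      · exact h.2 r hr, fun h => ⟨h q List.mem_cons_self, fun r hr => h r (List.mem_cons_of_mem _ hr)⟩⟩

open Classical in
theorem cntF_eq {l : List (List ℕ × ℕ)} (hl : WF l) :
    cntF l = (Finset.univ.filter fun y : Ix → ZMod 3 => Sat l y).card := by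
  rw [cntF, fTs_eq, cnt_eq_card]
  congr 1
  ext y
  rw [Finset.mem_filter, Finset.mem_filter, tst_iff hl]

theorem mod_le (n : ℕ) : n % 3 ≤ 2 := Nat.lt_succ_iff.1 (Nat.mod_lt _ (by norm_num))

theorem cq_ok (m : M7) : (cq m).length = 35 ∧ ∀ b ∈ cq m, b ≤ 2 := by
  refine ⟨rfl, fun b hb => ?_⟩
  have h0 : 0 ≤ 2 := by norm_num
  simp only [cq, List.mem_cons, List.not_mem_nil, or_false] at hb
  rcases hb with h | h | h | h | h | h | h | h | h | h | h | h | h | h | h | h | h | h | h | h | h | h | h | h | h | h |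
    h | h | h | h | h | h | h | h | h <;> rw [h] <;> first | exact mod_le _ | exact h0

theorem cl_ok (f : D) : (cl f).length = 35 ∧ ∀ b ∈ cl f, b ≤ 2 := by
  refine ⟨rfl, fun b hb => ?_⟩
  have h0 : 0 ≤ 2 := by norm_num
  simp only [cl, List.mem_cons, List.not_mem_nil, or_false] at hb
  rcases hb with h | h | h | h | h | h | h | h | h | h | h | h | h | h | h | h | h | h | h | h | h | h | h | h | h | h |
    h | h | h | h | h | h | h | h | h <;> rw [h] <;> first | exact mod_le _ | exact h0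

theorem crs_ok (m : M7) (s : ℕ) : ∀ l ∈ crs m s, l.length = 35 ∧ ∀ b ∈ l, b ≤ 2 := by
  intro l hl
  have h0 : 0 ≤ 2 := by norm_num
  simp only [crs, List.mem_cons, List.not_mem_nil, or_false] at hl
  rcases hl with rfl | rfl | rfl | rfl | rfl | rfl | rfl <;>
  · refine ⟨rfl, fun b hb => ?_⟩
    simp only [List.mem_cons, List.not_mem_nil, or_false] at hb
    rcases hb with h | h | h | h | h | h | h | h | h | h | h | h | h | h | h | h | h | h | h | h | h | h | h | h | h |
      h | h | h | h | h | h | h | h | h | h <;> rw [h] <;> first | exact mod_le _ | exact h0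

/-- the coordinates of `m y + s y` -/
theorem dot_crs (m : M7) (s : ℕ) (y : Ix → ZMod 3) :
    (∀ l ∈ crs m s, ((dotN (ml y) l : ℕ) : ZMod 3) = 0) ↔ m.app y + (s : ZMod 3) • y = 0 := by
  have key : (∀ l ∈ crs m s, ((dotN (ml y) l : ℕ) : ZMod 3) = 0) ↔ (m.app y + (s : ZMod 3) • y) (.inl ()) = 0 ∧
      (m.app y + (s : ZMod 3) • y) (.inr (.inl 0)) = 0 ∧ (m.app y + (s : ZMod 3) • y) (.inr (.inl 1)) = 0 ∧
      (m.app y + (s : ZMod 3) • y) (.inr (.inl 2)) = 0 ∧ (m.app y + (s : ZMod 3) • y) (.inr (.inr 0)) = 0 ∧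
      (m.app y + (s : ZMod 3) • y) (.inr (.inr 1)) = 0 ∧ (m.app y + (s : ZMod 3) • y) (.inr (.inr 2)) = 0 := by
    simp only [crs, List.forall_mem_cons, List.not_mem_nil, false_imp_iff, implies_true, and_true]
    refine and_congr ?_ (and_congr ?_ (and_congr ?_ (and_congr ?_ (and_congr ?_ (and_congr ?_ ?_))))) <;>
    · apply Eq.congr _ rfl
      simp only [ml, mono, dotN, M7.app, D.vec, Pi.add_apply, Pi.smul_apply, smul_eq_mul, Sum.elim_inl, Sum.elim_inr,
        Matrix.cons_val_zero, Matrix.cons_val_one, Matrix.cons_val, Nat.cast_add, Nat.cast_mul, cast_val, cast_mod,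
        Nat.cast_zero, Nat.cast_ofNat]
      ring
  rw [key]
  constructor
  · rintro ⟨h0, h1, h2, h3, h4, h5, h6⟩
    funext i
    rcases i with ⟨⟩ | i | i
    · exact h0
    · fin_cases i
      · exact h1
      · exact h2
      · exact h3
    · fin_cases i
      · exact h4
      · exact h5
      · exact h6
  · intro h
    rw [h]
    simp

end Cfsg.Agent.H397.QS.O7
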