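import Cfsg.Agent.H397.QS.O7.Sem

/-!
# Matrices over `F₃` by digits, quadratic and linear functionals
-/

set_option autoImplicit false

namespace Cfsg.Agent.H397.QS.O7

open Cfsg Matrix Cfsg.Agent.Fischer.O73 Cfsg.Agent.Fischer.Derived

/-- seven digits -/
structure D where
  (a b c d e f g : ℕ)

/-- seven columns -/
structure M7 where
  (c0 c1 c2 c3 c4 c5 c6 : D)

/-- the vector -/
def D.vec (v : D) : Ix → ZMod 3 :=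
  Sum.elim (fun _ => (v.a : ZMod 3)) (Sum.elim ![(v.b : ZMod 3), v.c, v.d] ![(v.e : ZMod 3), v.f, v.g])

/-- the polar form -/
def bf (p f : D) : ℕ := (2 * (p.a * f.a) + (p.e * f.b + p.f * f.c + p.g * f.d + (p.b * f.e + p.c * f.f + p.d * f.g))) % 3

theorem cast_mod (n : ℕ) : ((n % 3 : ℕ) : ZMod 3) = n := ZMod.natCast_mod n 3

theorem B_vec (p f : D) : B p.vec f.vec = (bf p f : ZMod 3) := by
  rw [B_def, bf, cast_mod]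
  simp only [D.vec, Sum.elim_inl, Sum.elim_inr, Matrix.cons_val_zero, Matrix.cons_val_one, Matrix.cons_val]
  push_cast
  ring

theorem bf_lt (p f : D) : bf p f < 3 := Nat.mod_lt _ (by norm_num)

/-- the action of a matrix on digits -/
def mulv (m : M7) (p : D) : D :=
  ⟨(p.a * m.c0.a + p.b * m.c1.a + p.c * m.c2.a + p.d * m.c3.a + p.e * m.c4.a + p.f * m.c5.a + p.g * m.c6.a) % 3,
    (p.a * m.c0.b + p.b * m.c1.b + p.c * m.c2.b + p.d * m.c3.b + p.e * m.c4.b + p.f * m.c5.b + p.g * m.c6.b) %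
    3, (p.a * m.c0.c + p.b * m.c1.c + p.c * m.c2.c + p.d * m.c3.c + p.e * m.c4.c + p.f * m.c5.c + p.g *
    m.c6.c) % 3, (p.a * m.c0.d + p.b * m.c1.d + p.c * m.c2.d + p.d * m.c3.d + p.e * m.c4.d + p.f * m.c5.d +
    p.g * m.c6.d) % 3, (p.a * m.c0.e + p.b * m.c1.e + p.c * m.c2.e + p.d * m.c3.e + p.e * m.c4.e + p.f *
    m.c5.e + p.g * m.c6.e) % 3, (p.a * m.c0.f + p.b * m.c1.f + p.c * m.c2.f + p.d * m.c3.f + p.e * m.c4.f +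
    p.f * m.c5.f + p.g * m.c6.f) % 3, (p.a * m.c0.g + p.b * m.c1.g + p.c * m.c2.g + p.d * m.c3.g + p.e *
    m.c4.g + p.f * m.c5.g + p.g * m.c6.g) % 3⟩

/-- the action of a matrix on vectors -/
def M7.app (m : M7) (y : Ix → ZMod 3) : Ix → ZMod 3 :=
  y (.inl ()) • m.c0.vec + y (.inr (.inl 0)) • m.c1.vec + y (.inr (.inl 1)) • m.c2.vec + y (.inr (.inl 2)) • m.c3.vec +
    y (.inr (.inr 0)) • m.c4.vec + y (.inr (.inr 1)) • m.c5.vec + y (.inr (.inr 2)) • m.c6.vec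

theorem app_vec (m : M7) (p : D) : m.app p.vec = (mulv m p).vec := by
  funext i
  rcases i with ⟨⟩ | i | i
  · simp only [M7.app, mulv, D.vec, Pi.add_apply, Pi.smul_apply, smul_eq_mul, Sum.elim_inl, Sum.elim_inr,
      Matrix.cons_val_zero, Matrix.cons_val_one, Matrix.cons_val, cast_mod]
    push_cast
    ring
  · fin_cases i <;>
    · simp only [M7.app, mulv, D.vec, Pi.add_apply, Pi.smul_apply, smul_eq_mul, Sum.elim_inl, Sum.elim_inr,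
        Matrix.cons_val_zero, Matrix.cons_val_one, Matrix.cons_val, cast_mod, Fin.zero_eta, Fin.mk_one, Fin.reduceFinMk]
      push_cast
      ring
  · fin_cases i <;>
    · simp only [M7.app, mulv, D.vec, Pi.add_apply, Pi.smul_apply, smul_eq_mul, Sum.elim_inl, Sum.elim_inr,
        Matrix.cons_val_zero, Matrix.cons_val_one, Matrix.cons_val, cast_mod, Fin.zero_eta, Fin.mk_one, Fin.reduceFinMk]
      push_cast
      ring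

/-- the coefficients of `y ↦ B(y, m y)` -/
def cq (m : M7) : List ℕ :=
  [0, (2 * m.c0.a) % 3, 0, (m.c0.e + 2 * m.c1.a) % 3, (m.c1.e) % 3, 0, (m.c0.f + 2 * m.c2.a) % 3, (m.c1.f +
    m.c2.e) % 3, (m.c2.f) % 3, 0, (m.c0.g + 2 * m.c3.a) % 3, (m.c1.g + m.c3.e) % 3, (m.c2.g + m.c3.f) % 3,
    (m.c3.g) % 3, 0, (m.c0.b + 2 * m.c4.a) % 3, (m.c1.b + m.c4.e) % 3, (m.c2.b + m.c4.f) % 3, (m.c3.b +
    m.c4.g) % 3, (m.c4.b) % 3, 0, (m.c0.c + 2 * m.c5.a) % 3, (m.c1.c + m.c5.e) % 3, (m.c2.c + m.c5.f) % 3,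
    (m.c3.c + m.c5.g) % 3, (m.c4.c + m.c5.b) % 3, (m.c5.c) % 3, 0, (m.c0.d + 2 * m.c6.a) % 3, (m.c1.d +
    m.c6.e) % 3, (m.c2.d + m.c6.f) % 3, (m.c3.d + m.c6.g) % 3, (m.c4.d + m.c6.b) % 3, (m.c5.d + m.c6.c) % 3,
    (m.c6.d) % 3]

/-- the coefficients of `y ↦ B(y, f)` -/
def cl (f : D) : List ℕ :=
  [(2 * f.a) % 3, 0, f.e % 3, 0, 0, f.f % 3, 0, 0, 0, f.g % 3, 0, 0, 0, 0, f.b % 3, 0, 0, 0, 0, 0, f.c % 3, 0,
    0, 0, 0, 0, 0, f.d % 3, 0, 0, 0, 0, 0, 0, 0]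

/-- the coefficients of the coordinates of `m y + s y` -/
def crs (m : M7) (s : ℕ) : List (List ℕ) :=
  [[(m.c0.a + s) % 3, 0, m.c1.a % 3, 0, 0, m.c2.a % 3, 0, 0, 0, m.c3.a % 3, 0, 0, 0, 0, m.c4.a % 3, 0, 0, 0, 0,
    0, m.c5.a % 3, 0, 0, 0, 0, 0, 0, m.c6.a % 3, 0, 0, 0, 0, 0, 0, 0],
   [m.c0.b % 3, 0, (m.c1.b + s) % 3, 0,
    0, m.c2.b % 3, 0, 0, 0, m.c3.b % 3, 0, 0, 0, 0, m.c4.b % 3, 0, 0, 0, 0, 0, m.c5.b % 3, 0, 0, 0, 0, 0, 0,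
    m.c6.b % 3, 0, 0, 0, 0, 0, 0, 0],
   [m.c0.c % 3, 0, m.c1.c % 3, 0, 0, (m.c2.c + s) % 3, 0, 0, 0, m.c3.c %
    3, 0, 0, 0, 0, m.c4.c % 3, 0, 0, 0, 0, 0, m.c5.c % 3, 0, 0, 0, 0, 0, 0, m.c6.c % 3, 0, 0, 0, 0, 0, 0, 0],

      [m.c0.d % 3, 0, m.c1.d % 3, 0, 0, m.c2.d % 3, 0, 0, 0, (m.c3.d + s) % 3, 0, 0, 0, 0, m.c4.d % 3, 0, 0,
    0, 0, 0, m.c5.d % 3, 0, 0, 0, 0, 0, 0, m.c6.d % 3, 0, 0, 0, 0, 0, 0, 0],
   [m.c0.e % 3, 0, m.c1.e % 3, 0,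
    0, m.c2.e % 3, 0, 0, 0, m.c3.e % 3, 0, 0, 0, 0, (m.c4.e + s) % 3, 0, 0, 0, 0, 0, m.c5.e % 3, 0, 0, 0, 0,
    0, 0, m.c6.e % 3, 0, 0, 0, 0, 0, 0, 0],
   [m.c0.f % 3, 0, m.c1.f % 3, 0, 0, m.c2.f % 3, 0, 0, 0, m.c3.f %
    3, 0, 0, 0, 0, m.c4.f % 3, 0, 0, 0, 0, 0, (m.c5.f + s) % 3, 0, 0, 0, 0, 0, 0, m.c6.f % 3, 0, 0, 0, 0, 0,
    0, 0],
   [m.c0.g % 3, 0, m.c1.g % 3, 0, 0, m.c2.g % 3, 0, 0, 0, m.c3.g % 3, 0, 0, 0, 0, m.c4.g % 3, 0, 0,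
    0, 0, 0, m.c5.g % 3, 0, 0, 0, 0, 0, 0, (m.c6.g + s) % 3, 0, 0, 0, 0, 0, 0, 0]]

theorem cast_val (a : ZMod 3) : ((a.val : ℕ) : ZMod 3) = a := ZMod.natCast_zmod_val a

theorem dot_cq (m : M7) (y : Ix → ZMod 3) : ((dotN (ml y) (cq m) : ℕ) : ZMod 3) = B y (m.app y) := by
  rw [B_def]
  simp only [ml, mono, cq, dotN, M7.app, D.vec, Pi.add_apply, Pi.smul_apply, smul_eq_mul, Sum.elim_inl, Sum.elim_inr,
    Matrix.cons_val_zero, Matrix.cons_val_one, Matrix.cons_val, Nat.cast_add, Nat.cast_mul, cast_val, cast_mod,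
    Nat.cast_zero, Nat.cast_ofNat]
  ring

theorem dot_cl (f : D) (y : Ix → ZMod 3) : ((dotN (ml y) (cl f) : ℕ) : ZMod 3) = B y f.vec := by
  rw [B_def]
  simp only [ml, mono, cl, dotN, D.vec, Sum.elim_inl, Sum.elim_inr, Matrix.cons_val_zero, Matrix.cons_val_one,
    Matrix.cons_val, Nat.cast_add, Nat.cast_mul, cast_val, cast_mod, Nat.cast_zero, Nat.cast_ofNat]
  ring

end Cfsg.Agent.H397.QS.O7
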