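import Cfsg.Agent.H397.QS.O7.Lev
import Cfsg.Agent.Fischer.Y322

/-!
# Bounds for centralizers, matrices of words, invariants of classes
-/

set_option autoImplicit false

namespace Cfsg.Agent.H397.QS.O7

open Cfsg Matrix Cfsg.Agent.Fischer.O73 Cfsg.Agent.Fischer.Derived

/-- the matrix of an isometry -/
def IsMat (m : M7) (x : G) : Prop := ∀ y, mat x *ᵥ y = m.app y

/-- equality of digits -/
def eqD (x y : D) : Bool := and (Nat.beq x.a y.a) (and (Nat.beq x.b y.b) (and (Nat.beq x.c y.c) (and (Nat.beq x.d y.d)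
  (and (Nat.beq x.e y.e) (and (Nat.beq x.f y.f) (Nat.beq x.g y.g))))))

theorem of_eqD {x y : D} (h : eqD x y = true) : x = y := by
  unfold eqD at h
  simp only [Bool.and_eq_true] at h
  obtain ⟨h1, h2, h3, h4, h5, h6, h7⟩ := h
  cases x; cases y
  simp only at h1 h2 h3 h4 h5 h6 h7
  rw [Nat.eq_of_beq_eq_true h1, Nat.eq_of_beq_eq_true h2, Nat.eq_of_beq_eq_true h3, Nat.eq_of_beq_eq_true h4,
    Nat.eq_of_beq_eq_true h5, Nat.eq_of_beq_eq_true h6, Nat.eq_of_beq_eq_true h7]

/-- the list is the beginning of the orbit -/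
def chainF (m : M7) (x : D) (l : List D) : Bool :=
  List.rec (motive := fun _ => D → Bool) (fun _ => true) (fun y _ ih x => and (eqD (mulv m x) y) (ih y)) l x

theorem chainF_cons (m : M7) (x y : D) (l : List D) : chainF m x (y :: l) = and (eqD (mulv m x) y) (chainF m y l) := rfl

/-- eigenvector -/
def eOk (m : M7) (p : D) (e : ℕ) : Bool :=
  cond (Nat.beq e 0) true (eqD ⟨((mulv m p).a + e * p.a) % 3, ((mulv m p).b + e * p.b) % 3, ((mulv m p).c + e * p.c) % 3,
    ((mulv m p).d + e * p.d) % 3, ((mulv m p).e + e * p.e) % 3, ((mulv m p).f + e * p.f) % 3,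
    ((mulv m p).g + e * p.g) % 3⟩ ⟨0, 0, 0, 0, 0, 0, 0⟩)

theorem of_eOk {m : M7} {p : D} {e : ℕ} (he : Nat.beq e 0 = false) (h : eOk m p e = true) :
    m.app p.vec + (e : ZMod 3) • p.vec = 0 := by
  unfold eOk at h
  rw [he, cond_false] at h
  have h1 := of_eqD h
  rw [D.mk.injEq] at h1
  obtain ⟨h1, h2, h3, h4, h5, h6, h7⟩ := h1
  have key : ∀ n : ℕ, n % 3 = 0 → (n : ZMod 3) = 0 := by
    intro n hn
    rw [← cast_mod, hn, Nat.cast_zero]
  rw [app_vec]
  funext i
  rcases i with ⟨⟩ | i | i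
  · have := key _ h1
    push_cast at this
    exact this
  · fin_cases i
    · have := key _ h2
      push_cast at this
      exact this
    · have := key _ h3
      push_cast at this
      exact this
    · have := key _ h4
      push_cast at this
      exact this
  · fin_cases i
    · have := key _ h5
      push_cast at this
      exact this
    · have := key _ h6
      push_cast at this
      exact this
    · have := key _ h7
      push_cast at this
      exact this

/-- data of a level -/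
structure Lvl where
  p : D
  n : ℕ
  e : ℕ
  ch : List D

/-- the tests of a level -/
def lts (ms : List M7) (m1 : M7) (F : List D) (p : D) (e : ℕ) : List (List ℕ × ℕ) :=
  (ms.map fun m => (cq m, bf p (mulv m p))) ++ ((F.map fun f => (cl f, bf p f)) ++
    (cond (Nat.beq e 0) [] ((crs m1 e).map fun l => (l, 0))))

theorem lts_wf (ms : List M7) (m1 : M7) (F : List D) (p : D) (e : ℕ) : WF (lts ms m1 F p e) := by
  intro q hq
  unfold lts at hq
  rw [List.mem_append, List.mem_append, List.mem_map, List.mem_map] at hq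
  rcases hq with ⟨m, -, rfl⟩ | ⟨f, -, rfl⟩ | h
  · exact ⟨(cq_ok m).1, (cq_ok m).2, bf_lt _ _⟩
  · exact ⟨(cl_ok f).1, (cl_ok f).2, bf_lt _ _⟩
  · cases he : Nat.beq e 0 with
    | true => rw [he, cond_true] at h; exact absurd h List.not_mem_nil
    | false =>
      rw [he, cond_false, List.mem_map] at h
      obtain ⟨l, hl, rfl⟩ := h
      exact ⟨(crs_ok m1 e l hl).1, (crs_ok m1 e l hl).2, by norm_num⟩

theorem fin_wf (F : List D) : WF (F.map fun f => (cl f, 0)) := by
  intro q hq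
  rw [List.mem_map] at hq
  obtain ⟨f, -, rfl⟩ := hq
  exact ⟨(cl_ok f).1, (cl_ok f).2, by norm_num⟩

/-- the check of the levels -/
def run (ms : List M7) (m1 : M7) (ls : List Lvl) (F : List D) : Bool :=
  List.rec (motive := fun _ => List D → Bool) (fun F => Nat.beq (cntF (F.map fun f => (cl f, 0))) 1)
    (fun s _ ih F => and (Nat.beq (cntF (lts ms m1 F s.p s.e)) s.n) (and (chainF m1 s.p s.ch)
      (and (eOk m1 s.p s.e) (ih (s.p :: (s.ch ++ F)))))) ls F

theorem run_cons (ms : List M7) (m1 : M7) (s : Lvl) (ls : List Lvl) (F : List D) : run ms m1 (s :: ls) F =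
    and (Nat.beq (cntF (lts ms m1 F s.p s.e)) s.n) (and (chainF m1 s.p s.ch)
      (and (eOk m1 s.p s.e) (run ms m1 ls (s.p :: (s.ch ++ F))))) := rfl

/-- the bound -/
def bd : List Lvl → ℕ
  | [] => 1
  | s :: ls => s.n * bd ls

theorem chainF_fix {m : M7} {x c : G} (hm : IsMat m x) (hc : c * x = x * c) (l : List D) :
    ∀ p : D, chainF m p l = true → mat c *ᵥ p.vec = p.vec → ∀ f ∈ l, mat c *ᵥ f.vec = f.vec := by
  induction l with
  | nil => intro p _ _ f hf; exact absurd hf List.not_mem_nil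
  | cons y l ih =>
    intro p h hp f hf
    rw [chainF_cons, Bool.and_eq_true] at h
    have hy : mat c *ᵥ y.vec = y.vec := by
      rw [← of_eqD h.1, ← app_vec, ← hm, ← mat_act, hc, mat_act, hp]
    rcases List.mem_cons.1 hf with rfl | hf
    · exact hy
    · exact ih y h.2 hy f hf

theorem le_of_run {x : G} {ms : List M7} {m1 : M7} (h1 : IsMat m1 x)
    (hms : ∀ m ∈ ms, ∃ z : G, IsMat m z ∧ ∀ c : G, c * x = x * c → c * z = z * c) :
    ∀ (ls : List Lvl) (F : List D) (C : Subgroup G), (∀ c ∈ C, c * x = x * c) →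
      (∀ c ∈ C, ∀ f ∈ F, mat c *ᵥ f.vec = f.vec) → run ms m1 ls F = true → Nat.card C ≤ bd ls := by
  classical
  intro ls
  induction ls with
  | nil =>
    intro F C hC hF h
    have h0 : Nat.beq (cntF (F.map fun f => (cl f, 0))) 1 = true := h
    have h2 := Nat.eq_of_beq_eq_true h0
    rw [cntF_eq (fin_wf F), Finset.card_eq_one] at h2
    obtain ⟨y0, h2⟩ := h2
    have hsat : ∀ y, Sat (F.map fun f => (cl f, 0)) y ↔ ∀ f ∈ F, B y f.vec = 0 := by
      intro y
      constructor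
      · intro hy f hf
        have := hy _ (List.mem_map_of_mem hf)
        rw [dot_cl] at this
        rw [this]; simp
      · intro hy q hq
        rw [List.mem_map] at hq
        obtain ⟨f, hf, rfl⟩ := hq
        rw [dot_cl, hy f hf]; simp
    have huniq : ∀ y, (∀ f ∈ F, B y f.vec = 0) → y = y0 := by
      intro y hy
      have : y ∈ (Finset.univ.filter fun y : Ix → ZMod 3 => Sat (F.map fun f => (cl f, 0)) y) := by
        rw [Finset.mem_filter]
        exact ⟨Finset.mem_univ _, (hsat y).2 hy⟩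
      rw [h2, Finset.mem_singleton] at this
      exact this
    have hzero : ∀ f ∈ F, B 0 f.vec = 0 := by
      intro f _
      rw [B_comm, ← zero_smul (ZMod 3) (0 : Ix → ZMod 3), B_smul, zero_mul]
    show Nat.card C ≤ 1
    rw [Subgroup.card_le_one_iff_eq_bot, Subgroup.eq_bot_iff_forall]
    intro c hc
    apply ext_act
    intro y
    rw [mat_one, one_mulVec]
    have h3 : ∀ f ∈ F, B (mat c *ᵥ y - y) f.vec = 0 := by
      intro f hf
      have e1 : B (mat c *ᵥ y) f.vec = B y f.vec := by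
        nth_rewrite 1 [← hF c hc f hf]
        exact B_mat c y f.vec
      rw [sub_eq_add_neg, B_comm, B_add, B_neg, B_comm f.vec, B_comm f.vec, e1]
      ring
    have h4 := (huniq _ h3).trans (huniq 0 hzero).symm
    exact sub_eq_zero.1 h4
  | cons s ls ih =>
    intro F C hC hF h
    rw [run_cons, Bool.and_eq_true, Bool.and_eq_true, Bool.and_eq_true] at h
    obtain ⟨hn, hch, he, h5⟩ := h
    have hn := Nat.eq_of_beq_eq_true hn
    rw [cntF_eq (lts_wf ms m1 F s.p s.e)] at hn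
    show Nat.card C ≤ s.n * bd ls
    rw [← hn]
    refine (orb C s.p.vec _ fun c hc => ?_).trans (Nat.mul_le_mul_left _ ?_)
    · rw [Finset.mem_filter]
      refine ⟨Finset.mem_univ _, fun q hq => ?_⟩
      unfold lts at hq
      rw [List.mem_append, List.mem_append, List.mem_map, List.mem_map] at hq
      rcases hq with ⟨m, hm, rfl⟩ | ⟨f, hf, rfl⟩ | hq
      · obtain ⟨z, hz, hcz⟩ := hms m hm
        rw [dot_cq, ← hz, ← mat_act, ← hcz c (hC c hc), mat_act, B_mat, hz, app_vec, B_vec]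
      · rw [dot_cl]
        nth_rewrite 1 [← hF c hc f hf]
        rw [B_mat, B_vec]
      · cases hb : Nat.beq s.e 0 with
        | true => rw [hb, cond_true] at hq; exact absurd hq List.not_mem_nil
        | false =>
          rw [hb, cond_false, List.mem_map] at hq
          obtain ⟨l, hl, rfl⟩ := hq
          have h6 := of_eOk hb he
          have h7 : m1.app (mat c *ᵥ s.p.vec) + (s.e : ZMod 3) • (mat c *ᵥ s.p.vec) = 0 := by
            rw [← h1, ← mat_act, ← hC c hc, mat_act, ← mulVec_smul, ← mulVec_add, h1, h6, mulVec_zero]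
          rw [(dot_crs m1 s.e _).2 h7 l hl]
          simp
    · refine ih _ (stG C s.p.vec) (fun c hc => hC c hc.1) (fun c hc f hf => ?_) h5
      rw [List.mem_cons, List.mem_append] at hf
      rcases hf with rfl | hf | hf
      · exact hc.2
      · exact chainF_fix h1 (hC c hc.1) s.ch s.p hch hc.2 f hf
      · exact hF c hc.1 f hf

/-! ### Matrices of words -/

/-- the roots -/
def rootD : Fin 8 → D
  | 0 => ⟨0, 0, 0, 1, 0, 0, 2⟩
  | 1 => ⟨0, 0, 0, 1, 0, 1, 2⟩
  | 2 => ⟨0, 0, 1, 0, 0, 2, 0⟩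
  | 3 => ⟨0, 1, 0, 0, 2, 1, 0⟩
  | 4 => ⟨1, 0, 0, 1, 1, 0, 1⟩
  | 5 => ⟨1, 0, 0, 1, 0, 0, 1⟩
  | 6 => ⟨2, 0, 0, 1, 0, 1, 1⟩
  | 7 => ⟨2, 0, 0, 1, 0, 0, 1⟩

theorem rootD_vec : ∀ k, (rootD k).vec = (root k).toFun := by decide

/-- the action of `- r_v` -/
def rl (r x : D) : D :=
  force (bf r x) fun k =>
  force ((2 * x.a + 2 * (k * r.a)) % 3) fun a =>
  force ((2 * x.b + 2 * (k * r.b)) % 3) fun b =>
  force ((2 * x.c + 2 * (k * r.c)) % 3) fun c =>
  force ((2 * x.d + 2 * (k * r.d)) % 3) fun d =>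
  force ((2 * x.e + 2 * (k * r.e)) % 3) fun e =>
  force ((2 * x.f + 2 * (k * r.f)) % 3) fun f =>
  force ((2 * x.g + 2 * (k * r.g)) % 3) fun g => ⟨a, b, c, d, e, f, g⟩

theorem rl_vec (r x : D) : (rl r x).vec = mM r.vec *ᵥ x.vec := by
  have h2 : (2 : ZMod 3) = -1 := by decide
  rw [mM_mulVec, B_vec]
  unfold rl
  simp only [force_eq]
  funext i
  rcases i with ⟨⟩ | i | i
  · simp only [D.vec, Sum.elim_inl, Sum.elim_inr, Pi.sub_apply, Pi.neg_apply, Pi.smul_apply, smul_eq_mul, cast_mod,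
      Nat.cast_add, Nat.cast_mul, Nat.cast_ofNat, h2]
    ring
  · fin_cases i <;>
    · simp only [D.vec, Sum.elim_inl, Sum.elim_inr, Pi.sub_apply, Pi.neg_apply, Pi.smul_apply, smul_eq_mul, cast_mod,
        Nat.cast_add, Nat.cast_mul, Nat.cast_ofNat, h2, Matrix.cons_val_zero, Matrix.cons_val_one, Matrix.cons_val,
        Fin.zero_eta, Fin.mk_one, Fin.reduceFinMk]
      ring
  · fin_cases i <;>
    · simp only [D.vec, Sum.elim_inl, Sum.elim_inr, Pi.sub_apply, Pi.neg_apply, Pi.smul_apply, smul_eq_mul, cast_mod,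
        Nat.cast_add, Nat.cast_mul, Nat.cast_ofNat, h2, Matrix.cons_val_zero, Matrix.cons_val_one, Matrix.cons_val,
        Fin.zero_eta, Fin.mk_one, Fin.reduceFinMk]
      ring

/-- the action of a word -/
def actD (w : List (Fin 8)) (x : D) : D := List.rec (motive := fun _ => D) x (fun k _ ih => rl (rootD k) ih) w

theorem mat_word (w : List (Fin 8)) (x : D) : mat (ev gen w) *ᵥ x.vec = (actD w x).vec := by
  induction w with
  | nil => rw [ev_nil, mat_one, one_mulVec]; rfl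
  | cons k w ih =>
    have h : actD (k :: w) x = rl (rootD k) (actD w x) := rfl
    rw [h, rl_vec, ← ih, ev_cons, mat_mul, ← mulVec_mulVec, rootD_vec, gen, mat_mO]

/-- the identity -/
def id7 : M7 := ⟨⟨1, 0, 0, 0, 0, 0, 0⟩, ⟨0, 1, 0, 0, 0, 0, 0⟩, ⟨0, 0, 1, 0, 0, 0, 0⟩, ⟨0, 0, 0, 1, 0, 0, 0⟩,
  ⟨0, 0, 0, 0, 1, 0, 0⟩, ⟨0, 0, 0, 0, 0, 1, 0⟩, ⟨0, 0, 0, 0, 0, 0, 1⟩⟩

theorem id7_app (y : Ix → ZMod 3) : id7.app y = y := by
  funext i
  rcases i with ⟨⟩ | i | i
  · simp [M7.app, D.vec, id7]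
  · fin_cases i <;> simp [M7.app, D.vec, id7]
  · fin_cases i <;> simp [M7.app, D.vec, id7]

theorem isMat_one : IsMat id7 1 := by
  intro y
  rw [mat_one, one_mulVec, id7_app]

theorem mulVec_app (x : G) (n : M7) (y : Ix → ZMod 3) : mat x *ᵥ n.app y =
    y (.inl ()) • (mat x *ᵥ n.c0.vec) + y (.inr (.inl 0)) • (mat x *ᵥ n.c1.vec) +
    y (.inr (.inl 1)) • (mat x *ᵥ n.c2.vec) + y (.inr (.inl 2)) • (mat x *ᵥ n.c3.vec) +
    y (.inr (.inr 0)) • (mat x *ᵥ n.c4.vec) + y (.inr (.inr 1)) • (mat x *ᵥ n.c5.vec) +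
    y (.inr (.inr 2)) • (mat x *ᵥ n.c6.vec) := by
  unfold M7.app
  simp only [mulVec_add, mulVec_smul]

theorem IsMat.of_cols {x : G} {m : M7} (h0 : mat x *ᵥ id7.c0.vec = m.c0.vec) (h1 : mat x *ᵥ id7.c1.vec = m.c1.vec)
    (h2 : mat x *ᵥ id7.c2.vec = m.c2.vec) (h3 : mat x *ᵥ id7.c3.vec = m.c3.vec) (h4 : mat x *ᵥ id7.c4.vec = m.c4.vec)
    (h5 : mat x *ᵥ id7.c5.vec = m.c5.vec) (h6 : mat x *ᵥ id7.c6.vec = m.c6.vec) : IsMat m x := by
  intro y
  have h := mulVec_app x id7 y
  rw [id7_app, h0, h1, h2, h3, h4, h5, h6] at h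
  exact h

/-- the product -/
def mmul (m n : M7) : M7 :=
  ⟨mulv m n.c0, mulv m n.c1, mulv m n.c2, mulv m n.c3, mulv m n.c4, mulv m n.c5, mulv m n.c6⟩

theorem IsMat.mul {x z : G} {m n : M7} (hm : IsMat m x) (hn : IsMat n z) : IsMat (mmul m n) (x * z) := by
  intro y
  rw [mat_act, hn, mulVec_app]
  simp only [hm _, app_vec]
  rfl

/-- equality of matrices -/
def eqM (m n : M7) : Bool := and (eqD m.c0 n.c0) (and (eqD m.c1 n.c1) (and (eqD m.c2 n.c2) (and (eqD m.c3 n.c3)
  (and (eqD m.c4 n.c4) (and (eqD m.c5 n.c5) (eqD m.c6 n.c6))))))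

theorem of_eqM {m n : M7} (h : eqM m n = true) : m = n := by
  unfold eqM at h
  simp only [Bool.and_eq_true] at h
  obtain ⟨h1, h2, h3, h4, h5, h6, h7⟩ := h
  cases m; cases n
  simp only at h1 h2 h3 h4 h5 h6 h7
  rw [of_eqD h1, of_eqD h2, of_eqD h3, of_eqD h4, of_eqD h5, of_eqD h6, of_eqD h7]

/-- the matrix of a word -/
def matOk (w : List (Fin 8)) (m : M7) : Bool := eqM ⟨actD w id7.c0, actD w id7.c1, actD w id7.c2, actD w id7.c3,
  actD w id7.c4, actD w id7.c5, actD w id7.c6⟩ m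

theorem isMat_of_matOk {w : List (Fin 8)} {m : M7} (h : matOk w m = true) : IsMat m (ev gen w) := by
  have h1 := of_eqM h
  rw [← h1]
  exact IsMat.of_cols (mat_word _ _) (mat_word _ _) (mat_word _ _) (mat_word _ _) (mat_word _ _) (mat_word _ _)
    (mat_word _ _)

end Cfsg.Agent.H397.QS.O7
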