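import Cfsg.Agent.H397.QS.O7.Cnt
import Cfsg.Agent.Fischer.O73

/-!
# Semantics of the counting function
-/

set_option autoImplicit false

namespace Cfsg.Agent.H397.QS.O7

open Cfsg.Agent.Fischer.O73

/-- the monomials -/
def mono (a b c d e f g : ℕ) : List ℕ :=
  [a, a * a, b, b * a, b * b, c, c * a, c * b, c * c, d, d * a, d * b, d * c, d * d, e, e * a, e * b, e * c, e * d,
    e * e, f, f * a, f * b, f * c, f * d, f * e, f * f, g, g * a, g * b, g * c, g * d, g * e, g * f, g * g]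

theorem cntR_cons (t : ℕ → Bool) (p b : ℕ) (ls : List (ℕ × ℕ)) (P W : ℕ) : cntR t ((p, b) :: ls) P W =
    ∑ d : Fin 3, cntR t ls (P + d.val * p) (W + d.val * (b * (P + d.val * p))) := by
  rw [Fin.sum_univ_three]
  have h : cntR t ((p, b) :: ls) P W = Nat.add (cntR t ls P W) (Nat.add
      (force (Nat.add P p) fun P1 => force (Nat.add W (Nat.mul b P1)) fun W1 => cntR t ls P1 W1)
      (force (Nat.add P (Nat.mul 2 p)) fun P2 =>
        force (Nat.add W (Nat.mul 2 (Nat.mul b P2))) fun W2 => cntR t ls P2 W2)) := rfl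
  rw [h, force_eq, force_eq, force_eq, force_eq]
  have e0 : ((0 : Fin 3) : ℕ) = 0 := rfl
  have e1 : ((1 : Fin 3) : ℕ) = 1 := rfl
  have e2 : ((2 : Fin 3) : ℕ) = 2 := rfl
  rw [e0, e1, e2, zero_mul, zero_mul, add_zero, add_zero, one_mul, one_mul, add_assoc]
  rfl

theorem cntR_nil (t : ℕ → Bool) (P W : ℕ) : cntR t [] P W = cond (t W) 1 0 := rfl

/-- the coordinates -/
abbrev D7 : Type := Fin 3 × Fin 3 × Fin 3 × Fin 3 × Fin 3 × Fin 3 × Fin 3

/-- packing with a general base -/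
def pkB (B : ℕ) : List ℕ → ℕ
  | [] => 0
  | a :: l => a + B * pkB B l

theorem pk_eq (l : List ℕ) : pk l = pkB 1024 l := by
  induction l with
  | nil => rfl
  | cons a l ih => rw [pk, pkB, ih]

/-- the levels with a general base -/
def levB (B : ℕ) : List (ℕ × ℕ) :=
  [(B, 1), (B ^ 2, B ^ 2), (B ^ 3, B ^ 5), (B ^ 4, B ^ 9), (B ^ 5, B ^ 14), (B ^ 6, B ^ 20), (B ^ 7, B ^ 27)]

theorem lev_eq : lev = levB 1024 := by
  unfold levB
  norm_num
  rfl

theorem poly (B a b c d e f g : ℕ) :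
    0 + a * (1 * (1 + a * B)) + b * (B ^ 2 * (1 + a * B + b * B ^ 2)) + c * (B ^ 5 * (1 + a * B + b * B ^ 2 + c * B ^ 3)) +
    d * (B ^ 9 * (1 + a * B + b * B ^ 2 + c * B ^ 3 + d * B ^ 4)) +
    e * (B ^ 14 * (1 + a * B + b * B ^ 2 + c * B ^ 3 + d * B ^ 4 + e * B ^ 5)) +
    f * (B ^ 20 * (1 + a * B + b * B ^ 2 + c * B ^ 3 + d * B ^ 4 + e * B ^ 5 + f * B ^ 6)) +
    g * (B ^ 27 * (1 + a * B + b * B ^ 2 + c * B ^ 3 + d * B ^ 4 + e * B ^ 5 + f * B ^ 6 + g * B ^ 7)) =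
    pkB B (mono a b c d e f g) := by
  simp only [mono, pkB]
  ring

theorem cntR_lev (B : ℕ) (t : ℕ → Bool) : cntR t (levB B) 1 0 = ∑ a : Fin 3, ∑ b : Fin 3, ∑ c : Fin 3, ∑ d : Fin 3,
    ∑ e : Fin 3, ∑ f : Fin 3, ∑ g : Fin 3, cond (t (pkB B (mono a b c d e f g))) 1 0 := by
  unfold levB
  simp only [cntR_cons, cntR_nil, poly]

theorem cnt_eq_sum (ts : List (ℕ × ℕ)) : cnt ts = ∑ x : D7, cond (tst ts (pk (mono x.1 x.2.1 x.2.2.1 x.2.2.2.1
    x.2.2.2.2.1 x.2.2.2.2.2.1 x.2.2.2.2.2.2))) 1 0 := by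
  simp only [D7, Fintype.sum_prod_type]
  have h : cnt ts = cntR (tst ts) lev 1 0 := rfl
  rw [h, lev_eq, cntR_lev]
  simp only [pk_eq]

/-- vectors and coordinates -/
def eqv : (Ix → ZMod 3) ≃ D7 where
  toFun y := (y (.inl ()), y (.inr (.inl 0)), y (.inr (.inl 1)), y (.inr (.inl 2)), y (.inr (.inr 0)),
    y (.inr (.inr 1)), y (.inr (.inr 2)))
  invFun x := Sum.elim (fun _ => x.1) (Sum.elim ![x.2.1, x.2.2.1, x.2.2.2.1]
    ![x.2.2.2.2.1, x.2.2.2.2.2.1, x.2.2.2.2.2.2])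
  left_inv y := by
    funext i
    rcases i with ⟨⟩ | i | i
    · rfl
    · fin_cases i <;> rfl
    · fin_cases i <;> rfl
  right_inv x := rfl

/-- the packed monomials of a vector -/
def ml (y : Ix → ZMod 3) : List ℕ := mono (y (.inl ())).val (y (.inr (.inl 0))).val (y (.inr (.inl 1))).val
  (y (.inr (.inl 2))).val (y (.inr (.inr 0))).val (y (.inr (.inr 1))).val (y (.inr (.inr 2))).val

theorem cnt_eq_card (ts : List (ℕ × ℕ)) :
    cnt ts = (Finset.univ.filter fun y : Ix → ZMod 3 => tst ts (pk (ml y)) = true).card := by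
  rw [cnt_eq_sum, ← Equiv.sum_comp eqv, Finset.card_filter]
  refine Finset.sum_congr rfl fun y _ => ?_
  have h : (pk (mono ↑(eqv y).1 ↑(eqv y).2.1 ↑(eqv y).2.2.1 ↑(eqv y).2.2.2.1 ↑(eqv y).2.2.2.2.1
      ↑(eqv y).2.2.2.2.2.1 ↑(eqv y).2.2.2.2.2.2)) = pk (ml y) := rfl
  rw [h]
  cases tst ts (pk (ml y)) <;> simp

theorem val_le (a : ZMod 3) : a.val ≤ 2 := Nat.lt_succ_iff.1 (ZMod.val_lt a)

theorem ml_le (y : Ix → ZMod 3) : ∀ a ∈ ml y, a ≤ 4 := by
  have hv := fun i => val_le (y i)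
  have h1 : ∀ i, (y i).val ≤ 4 := fun i => (hv i).trans (by norm_num)
  have h2 : ∀ i j, (y i).val * (y j).val ≤ 4 := fun i j => Nat.mul_le_mul (hv i) (hv j)
  intro a ha
  simp only [ml, mono, List.mem_cons, List.not_mem_nil, or_false] at ha
  rcases ha with h | h | h | h | h | h | h | h | h | h | h | h | h | h | h | h | h | h | h | h | h | h | h | h | h | h |
    h | h | h | h | h | h | h | h | h <;> rw [h] <;> first | exact h1 _ | exact h2 _ _

theorem ml_length (y : Ix → ZMod 3) : (ml y).length = 35 := rfl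

theorem dotN_le (l : List ℕ) : ∀ m : List ℕ, (∀ a ∈ l, a ≤ 4) → (∀ b ∈ m, b ≤ 2) → dotN l m ≤ 8 * l.length := by
  induction l with
  | nil => intro m _ _; simp [dotN]
  | cons a l ih =>
    intro m h1 h2
    cases m with
    | nil => simp [dotN]
    | cons b m =>
      have h3 := ih m (fun a ha => h1 a (List.mem_cons_of_mem _ ha)) (fun b hb => h2 b (List.mem_cons_of_mem _ hb))
      have h4 : a * b ≤ 4 * 2 := Nat.mul_le_mul (h1 a List.mem_cons_self) (h2 b List.mem_cons_self)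
      rw [dotN, List.length_cons]
      omega

/-- the value of a test -/
theorem tst_cons {R v : ℕ} {cs : List ℕ} {ts : List (ℕ × ℕ)} (hR : R = pkr cs) (hl : cs.length = 35)
    (h2 : ∀ b ∈ cs, b ≤ 2) (y : Ix → ZMod 3) :
    tst ((R, v) :: ts) (pk (ml y)) = true ↔ dotN (ml y) cs % 3 = v ∧ tst ts (pk (ml y)) = true := by
  have h : tst ((R, v) :: ts) (pk (ml y)) = cond (Nat.beq (R * pk (ml y) / 1024 ^ 34 % 1024 % 3) v)
      (tst ts (pk (ml y))) false := by
    have e : (1024 : ℕ) ^ 34 =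
      2239744742177804210557442280568444278121645497234649534899989100963791871180160945380877493271607115776 := by
      norm_num
    rw [e]
    rfl
  have hd := dotN_le (ml y) cs (ml_le y) h2
  rw [ml_length] at hd
  rw [h, hR, ext_eq (ml_length y) hl (ml_le y) h2 (by omega)]
  cases hb : Nat.beq (dotN (ml y) cs % 3) v
  · simp only [cond_false, Bool.false_eq_true, false_iff, not_and]
    intro h3
    rw [h3] at hb
    simp at hb
  · rw [cond_true, and_iff_right (Nat.eq_of_beq_eq_true hb)]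

theorem tst_nil (W : ℕ) : tst [] W = true := rfl

/-- the value of a functional -/
theorem dotN_cast (y : Ix → ZMod 3) (cs : List ℕ) (v : ZMod 3) :
    dotN (ml y) cs % 3 = v.val ↔ ((dotN (ml y) cs : ℕ) : ZMod 3) = v := by
  rw [← ZMod.val_natCast]
  exact (ZMod.val_injective 3).eq_iff

end Cfsg.Agent.H397.QS.O7
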